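import Groth.Prelude.Def_W4c4cptpiccptjacBI
import Mathlib.Algebra.BigOperators.Ring.Finset
import Mathlib.Algebra.Order.BigOperators.Group.Finset
import Mathlib.Tactic.Linarith
import Mathlib.Algebra.Order.Ring.Abs
import Mathlib.Data.Finset.Card
import Mathlib.Data.Fintype.BigOperators
import Mathlib.Tactic.NormNum
import Mathlib.Tactic.LinearCombination
import Mathlib.Tactic.Ring

/-!
Edge-wise computations for the Basic Inequality.
-/

universe u

namespace Groth.Agent.Lib.LabGraph.BI

open _root_.LabGraph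

variable {V E : Type u} [Fintype V] [Fintype E] [DecidableEq V] [DecidableEq E]

/-- indicator -/
def ind (Y : Finset V) (v : V) : ℤ := if v ∈ Y then 1 else 0

lemma canDeg_univ (ends : E → V × V) (w : V → ℕ) :
    canDeg ends w Finset.univ = 2 * (genus ends w - 1) := by
  simp only [canDeg, endCount, genus, Nat.cast_sum, Nat.cast_add, Nat.cast_ite, Nat.cast_one,
    Nat.cast_zero, Finset.sum_add_distrib, Finset.sum_sub_distrib, ← Finset.mul_sum]
  rw [Finset.sum_comm]
  conv_lhs => arg 2; arg 2; rw [Finset.sum_comm]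
  simp only [Finset.sum_ite_eq, Finset.mem_univ, if_true, Finset.sum_const, Finset.card_univ,
    nsmul_eq_mul, mul_one]
  ring

lemma cut_eq_sum (ends : E → V × V) (Y : Finset V) :
    (cut ends Y : ℤ) = ∑ e : E, |ind Y (ends e).1 - ind Y (ends e).2| := by
  rw [cut, Finset.natCast_card_filter]
  refine Finset.sum_congr rfl fun e _ ↦ ?_
  by_cases h1 : (ends e).1 ∈ Y <;> by_cases h2 : (ends e).2 ∈ Y <;> simp [ind, h1, h2, abs_of_nonneg]

lemma sum_twist (ends : E → V × V) (φ : V → ℤ) (Y : Finset V) :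
    ∑ v ∈ Y, twist ends φ v =
      ∑ e : E, (ind Y (ends e).1 - ind Y (ends e).2) * (φ (ends e).2 - φ (ends e).1) := by
  simp only [twist]
  rw [Finset.sum_comm]
  refine Finset.sum_congr rfl fun e _ ↦ ?_
  rw [Finset.sum_add_distrib, Finset.sum_ite_eq, Finset.sum_ite_eq]
  simp only [ind]
  split_ifs <;> ring

lemma sum_twist_univ (ends : E → V × V) (φ : V → ℤ) : ∑ v, twist ends φ v = 0 := by
  rw [sum_twist]
  simp [ind]

lemma twist_add (ends : E → V × V) (φ ψ : V → ℤ) (v : V) :
    twist ends (fun u ↦ φ u + ψ u) v = twist ends φ v + twist ends ψ v := by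
  simp only [twist, ← Finset.sum_add_distrib]
  refine Finset.sum_congr rfl fun e _ ↦ ?_
  split_ifs <;> ring

lemma twist_sum {ι : Type*} (ends : E → V × V) (s : Finset ι) (φ : ι → V → ℤ) (v : V) :
    twist ends (fun u ↦ ∑ i ∈ s, φ i u) v = ∑ i ∈ s, twist ends (φ i) v := by
  classical
  induction s using Finset.induction with
  | empty => simp [twist]
  | insert a s ha ih => simp only [Finset.sum_insert ha, twist_add, ih]

/-- the two edges at an exceptional vertex -/
lemma exceptional_edges {ends : E → V × V} {w : V → ℕ} {v : V} (hv : IsExceptional ends w v) :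
    ∃ e₁ e₂ : E, e₁ ≠ e₂ ∧ (∀ e, ((ends e).1 = v ∨ (ends e).2 = v) ↔ e = e₁ ∨ e = e₂) := by
  obtain ⟨-, hloop, hcut⟩ := hv
  rw [cut, Finset.card_eq_two] at hcut
  obtain ⟨e₁, e₂, hne, heq⟩ := hcut
  refine ⟨e₁, e₂, hne, fun e ↦ ?_⟩
  have := Finset.ext_iff.1 heq e
  simp only [Finset.mem_filter, Finset.mem_univ, true_and, Finset.mem_singleton,
    Finset.mem_insert] at this
  rw [← this]
  constructor
  · rintro (h | h)
    · exact Or.inl ⟨h, fun h' ↦ hloop e (Prod.ext h h')⟩
    · exact Or.inr ⟨fun h' ↦ hloop e (Prod.ext h' h), h⟩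
  · rintro (h | h)
    · exact Or.inl h.1
    · exact Or.inr h.2

lemma canDeg_exceptional {ends : E → V × V} {w : V → ℕ} {v : V} (hv : IsExceptional ends w v) :
    canDeg ends w {v} = 0 := by
  obtain ⟨hw, hloop, hcut⟩ := hv
  have h : endCount ends Finset.univ v = cut ends {v} := by
    rw [endCount, cut, Finset.card_filter]
    refine Finset.sum_congr rfl fun e _ ↦ ?_
    have := hloop e
    by_cases h1 : (ends e).1 = v <;> by_cases h2 : (ends e).2 = v
    · exact absurd (Prod.ext h1 h2) this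
    all_goals simp [h1, h2]
  simp [canDeg, h, hw, hcut]

/-- sum over the edges at an exceptional vertex -/
lemma sum_exceptional {ends : E → V × V} {v : V} {e₁ e₂ : E} (hne : e₁ ≠ e₂)
    (h : ∀ e, ((ends e).1 = v ∨ (ends e).2 = v) ↔ e = e₁ ∨ e = e₂) (F : E → ℤ)
    (hF : ∀ e, ¬((ends e).1 = v ∨ (ends e).2 = v) → F e = 0) : ∑ e, F e = F e₁ + F e₂ :=
  Fintype.sum_eq_add e₁ e₂ hne fun e he ↦ hF e fun hh ↦ ((h e).1 hh).elim he.1 he.2

end Groth.Agent.Lib.LabGraph.BI
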