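import Mathlib.LinearAlgebra.Matrix.Determinant.Basic

/-!
# The Cauchy–Binet formula
-/

set_option autoImplicit false

open Finset Matrix

namespace Groth.Agent.Lib.LabGraph.CauchyBinet

variable {m n R : Type*} [Fintype m] [Fintype n] [DecidableEq m] [DecidableEq n] [CommRing R]

lemma det_mul_eq_sum_fun (A : Matrix m n R) (B : Matrix n m R) :
    (A * B).det = ∑ φ : m → n, (∏ i, A i (φ i)) * (B.submatrix φ id).det := by
  have h : A * B = fun i => ∑ j, A i j • B j := by
    funext i k
    simp [Matrix.mul_apply, Finset.sum_apply]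
  have key := (detRowAlternating (n := m) (R := R)).toMultilinearMap.map_sum fun i j => A i j • B j
  rw [h]
  refine key.trans (sum_congr rfl fun φ _ => ?_)
  rw [MultilinearMap.map_smul_univ]
  rfl

/-- the product of the two minors on the columns `S` (zero unless `S` has the right size) -/
noncomputable def minors (A : Matrix m n R) (B : Matrix n m R) (S : Finset n) : R :=
  if h : Fintype.card m = Fintype.card S then
    (A.submatrix id (fun i => ((Fintype.equivOfCardEq h i : S) : n))).det *
      (B.submatrix (fun i => ((Fintype.equivOfCardEq h i : S) : n)) id).det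
  else 0

theorem det_mul (A : Matrix m n R) (B : Matrix n m R) :
    (A * B).det = ∑ S : Finset n, minors A B S := by
  rw [det_mul_eq_sum_fun, ← sum_fiberwise univ (fun φ : m → n => univ.image φ)]
  refine sum_congr rfl fun S _ => ?_
  unfold minors
  split_ifs with h
  · set e : m ≃ S := Fintype.equivOfCardEq h with he
    have hterm : ∀ σ : Equiv.Perm m,
        (∏ i, A i (e (σ i) : n)) * (B.submatrix (fun i => (e (σ i) : n)) id).det =
          ((Equiv.Perm.sign σ : ℤ) : R) * (∏ i, A i (e (σ i) : n)) *
            (B.submatrix (fun i => (e i : n)) id).det := by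
      intro σ
      have hp : B.submatrix (fun i => (e (σ i) : n)) id =
          (B.submatrix (fun i => (e i : n)) id).submatrix σ id := rfl
      rw [hp, det_permute]
      ring
    rw [det_apply' (A.submatrix id fun i => (e i : n)) |>.trans
      (Fintype.sum_equiv (Equiv.inv (Equiv.Perm m)) _
        (fun σ => ((Equiv.Perm.sign σ : ℤ) : R) * ∏ i, A i (e (σ i) : n)) fun σ => ?_), sum_mul]
    · symm
      refine sum_bij (fun σ _ i => (e (σ i) : n)) ?_ ?_ ?_ fun σ _ => (hterm σ).symm
      · intro σ _
        rw [mem_filter]
        refine ⟨mem_univ _, ext fun x => ⟨fun hx => ?_, fun hx => ?_⟩⟩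
        · obtain ⟨i, -, rfl⟩ := mem_image.mp hx
          exact (e (σ i)).2
        · exact mem_image.mpr ⟨σ.symm (e.symm ⟨x, hx⟩), mem_univ _, by simp⟩
      · intro σ _ τ _ hστ
        exact Equiv.ext fun i => e.injective (Subtype.ext (congrFun hστ i))
      · intro φ hφ
        rw [mem_filter] at hφ
        have hmem : ∀ i, φ i ∈ S := fun i => hφ.2 ▸ mem_image_of_mem φ (mem_univ i)
        have hsurj : Function.Surjective fun i => (⟨φ i, hmem i⟩ : S) := by
          rintro ⟨x, hx⟩
          rw [← hφ.2] at hx
          obtain ⟨i, -, hi⟩ := mem_image.mp hx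
          exact ⟨i, Subtype.ext hi⟩
        have hbij := (Fintype.bijective_iff_surjective_and_card _).mpr ⟨hsurj, h⟩
        exact ⟨(Equiv.ofBijective _ hbij).trans e.symm, mem_univ _, funext fun i => by simp⟩
    · have hprod : ∏ i, A i (e (σ.symm i) : n) = ∏ i, A (σ i) (e i : n) :=
        (Equiv.prod_comp σ fun i => A i (e (σ.symm i) : n)).symm.trans (by simp)
      simp [Equiv.inv, hprod]
  · refine sum_eq_zero fun φ hφ => ?_
    rw [mem_filter] at hφ
    have hni : ¬ Function.Injective φ := fun hi => h (by
      rw [← hφ.2, Fintype.card_coe, card_image_of_injective _ hi, card_univ])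
    rw [Function.not_injective_iff] at hni
    obtain ⟨i, j, hij, hne⟩ := hni
    rw [det_zero_of_row_eq hne (funext fun k => by simp [hij]), mul_zero]

end Groth.Agent.Lib.LabGraph.CauchyBinet
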