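import Groth.Prelude.Def_W4c2conddiscmodels

/-!
# Contraction of a connecting chain in a multigraph with a multiplicity function
-/

set_option autoImplicit false

universe u

namespace Groth.Agent.Lib.LabGraph.Chain

open Finset Matrix

variable {V E : Type u} [Fintype V] [Fintype E] [DecidableEq V] [DecidableEq E]
  {ends : E → V × V} {β : V → ℤ}

local notation "α" => LabGraph.mfMatrix ends β

lemma edgeMult_comm (v w : V) : LabGraph.edgeMult ends v w = LabGraph.edgeMult ends w v := by
  unfold LabGraph.edgeMult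
  congr 1
  ext e
  simp [or_comm]

lemma mf_of_ne {v w : V} (h : v ≠ w) : α v w = (LabGraph.edgeMult ends v w : ℤ) := if_neg h

lemma mf_symm (v w : V) : α v w = α w v := by
  rcases eq_or_ne v w with rfl | h
  · rfl
  · rw [mf_of_ne h, mf_of_ne h.symm, edgeMult_comm]

lemma beta_mul_diag (hβ : LabGraph.IsMultFn ends β) (v : V) :
    β v * α v v = -∑ u ∈ univ.erase v, β u * (LabGraph.edgeMult ends v u : ℤ) := by
  rw [LabGraph.mfMatrix, if_pos rfl]
  exact Int.mul_ediv_cancel' (dvd_neg.mpr (hβ v).2)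

lemma sum_mf_beta (hβ : LabGraph.IsMultFn ends β) (v : V) : ∑ w, α v w * β w = 0 := by
  rw [← add_sum_erase univ _ (mem_univ v), mul_comm, beta_mul_diag hβ v, neg_add_eq_zero]
  exact sum_congr rfl fun w hw => by rw [mf_of_ne (ne_of_mem_erase hw).symm, mul_comm]

lemma mulVec_eq (z : V → ℤ) (v : V) : (α *ᵥ z) v = ∑ w, α v w * z w := rfl

lemma mulVec_beta (hβ : LabGraph.IsMultFn ends β) : α *ᵥ β = 0 :=
  funext fun v => sum_mf_beta hβ v

lemma betaHom_apply (z : V → ℤ) : LabGraph.betaHom β z = ∑ v, z v * β v := by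
  simp [LabGraph.betaHom, Fintype.linearCombination_apply, smul_eq_mul]

lemma betaHom_mulVec (hβ : LabGraph.IsMultFn ends β) (z : V → ℤ) :
    LabGraph.betaHom β (α *ᵥ z) = 0 := by
  rw [betaHom_apply]
  simp only [mulVec_eq, sum_mul]
  rw [sum_comm]
  refine sum_eq_zero fun w _ => ?_
  have h : ∑ v, α v w * z w * β v = z w * ∑ v, α w v * β v := by
    rw [mul_sum]; exact sum_congr rfl fun v _ => by rw [mf_symm v w]; ring
  rw [h, sum_mf_beta hβ, mul_zero]

/-! ### The contraction -/

variable {k : ℕ} {f : Fin (k + 1) → V} {e : Fin k → E}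

local notation "D" => Finset.image e (Finset.univ : Finset (Fin k))
local notation "P" => DualGr.ctrMk ends (Finset.image e (Finset.univ : Finset (Fin k)))

variable (f) in
/-- the `j`-th vertex of the chain, constant beyond the last one -/
def g (j : ℕ) : V := f ⟨min j k, Nat.lt_succ_of_le (min_le_right _ _)⟩

omit [Fintype V] [DecidableEq V] in
lemma g_val (i : Fin (k + 1)) : g f i.val = f i := by
  simp only [g, min_eq_left (Nat.le_of_lt_succ i.isLt)]

omit [Fintype V] [DecidableEq V] in
lemma g_zero : g f 0 = f 0 := g_val (0 : Fin (k + 1))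

lemma g_inj (hC : LabGraph.IsChain ends f e) {i j : ℕ} (hi : i ≤ k) (hj : j ≤ k) (h : g f i = g f j) :
    i = j := by
  have := Fin.mk.inj_iff.mp (hC.1 h)
  omega

lemma ends_e (hC : LabGraph.IsChain ends f e) {j : ℕ} (hj : j < k) :
    ends (e ⟨j, hj⟩) = (g f j, g f (j + 1)) ∨ ends (e ⟨j, hj⟩) = (g f (j + 1), g f j) := by
  have := hC.2.2 ⟨j, hj⟩
  rwa [← g_val (f := f) (Fin.castSucc ⟨j, hj⟩), ← g_val (f := f) (Fin.succ ⟨j, hj⟩)] at this

lemma ctr_chain (hC : LabGraph.IsChain ends f e) : ∀ j ≤ k, P (g f j) = P (f 0) := by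
  intro j
  induction j with
  | zero => intro _; rw [g_zero]
  | succ j ih =>
    intro hj
    rw [← ih (by omega)]
    have hm := DualGr.ctrMk_fst_eq_ctrMk_snd ends D
      (mem_image_of_mem e (mem_univ (⟨j, hj⟩ : Fin k)))
    rcases ends_e hC hj with h | h <;> rw [h] at hm
    · exact hm.symm
    · exact hm

lemma ctr_mk_f (hC : LabGraph.IsChain ends f e) (i : Fin (k + 1)) : P (f i) = P (f 0) := by
  rw [← g_val (f := f) i]; exact ctr_chain hC _ (Nat.le_of_lt_succ i.isLt)

lemma ctr_eq_iff (hC : LabGraph.IsChain ends f e) {v w : V} :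
    P v = P w ↔ v = w ∨ ((∃ i, f i = v) ∧ ∃ i, f i = w) := by
  constructor
  · intro h
    have h' : Relation.EqvGen (DualGr.CtrRel ends D) v w :=
      Quotient.exact (s := DualGr.ctrSetoid ends D) h
    induction h' with
    | rel x y hxy =>
      obtain ⟨d, hd, hd'⟩ := hxy
      obtain ⟨i, -, rfl⟩ := mem_image.mp hd
      rcases hC.2.2 i with h1 | h1 <;> rw [hd'] at h1 <;>
        exact Or.inr ⟨⟨_, (congrArg Prod.fst h1).symm⟩, ⟨_, (congrArg Prod.snd h1).symm⟩⟩
    | refl x => exact Or.inl rfl
    | symm x y _ ih =>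
      rcases ih (Quotient.sound (by assumption)) with rfl | ⟨hx, hy⟩
      · exact Or.inl rfl
      · exact Or.inr ⟨hy, hx⟩
    | trans x y z hxy hyz ih ih' =>
      rcases ih (Quotient.sound hxy) with rfl | ⟨hx, hy⟩
      · exact ih' (Quotient.sound hyz)
      · rcases ih' (Quotient.sound hyz) with rfl | ⟨-, hz⟩
        · exact Or.inr ⟨hx, hy⟩
        · exact Or.inr ⟨hx, hz⟩
  · rintro (rfl | ⟨⟨i, rfl⟩, j, rfl⟩)
    · rfl
    · exact (ctr_mk_f hC i).trans (ctr_mk_f hC j).symm

lemma ctrFn_mk (hC : LabGraph.IsChain ends f e) (hconst : ∀ i j, β (f i) = β (f j)) (v : V) :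
    LabGraph.ctrFn ends D β (P v) = β v := by
  have h : P (Quotient.out (s := DualGr.ctrSetoid ends D) (P v)) = P v :=
    Quotient.out_eq (s := DualGr.ctrSetoid ends D) (P v)
  change β (Quotient.out (s := DualGr.ctrSetoid ends D) (P v)) = β v
  rcases (ctr_eq_iff hC).mp h with h' | ⟨⟨i, hi⟩, j, hj⟩
  · rw [h']
  · rw [← hi, ← hj, hconst i j]

lemma mult_eq {v w : V} (h : v ≠ w) :
    (LabGraph.edgeMult ends v w : ℤ) =
      ∑ d : E, ((if (ends d).1 = v ∧ (ends d).2 = w then (1 : ℤ) else 0) +
        (if (ends d).1 = w ∧ (ends d).2 = v then (1 : ℤ) else 0)) := by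
  rw [LabGraph.edgeMult, card_filter, Nat.cast_sum]
  refine sum_congr rfl fun d _ => ?_
  simp only [Prod.ext_iff]
  by_cases h1 : (ends d).1 = v <;> by_cases h2 : (ends d).2 = w <;>
    by_cases h3 : (ends d).1 = w <;> by_cases h4 : (ends d).2 = v <;> simp_all

variable (ends e) in
/-- the vertices above a vertex of the contraction -/
noncomputable def fib (a : DualGr.CtrVert ends D) : Finset V := univ.filter fun v => P v = a

lemma mem_fib {a : DualGr.CtrVert ends D} {v : V} : v ∈ fib ends e a ↔ P v = a := by simp [fib]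

variable (β e) in
/-- the matrix of the contraction, computed upstairs -/
noncomputable def blockSum (a b : DualGr.CtrVert ends D) : ℤ :=
  ∑ v ∈ fib ends e a, ∑ w ∈ fib ends e b, α v w

lemma edgeMult_ctr (hC : LabGraph.IsChain ends f e) {a b : DualGr.CtrVert ends D} (hab : a ≠ b) :
    (LabGraph.edgeMult (DualGr.ctrEnds ends D) a b : ℤ) = blockSum β e a b := by
  have h1 : ∀ v ∈ fib ends e a, ∀ w ∈ fib ends e b, α v w =
      ∑ d : E, ((if (ends d).1 = v ∧ (ends d).2 = w then (1 : ℤ) else 0) +
        (if (ends d).1 = w ∧ (ends d).2 = v then (1 : ℤ) else 0)) := by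
    intro v hv w hw
    have hvw : v ≠ w := by rintro rfl; exact hab ((mem_fib.mp hv).symm.trans (mem_fib.mp hw))
    rw [mf_of_ne hvw, mult_eq hvw]
  rw [mult_eq hab, blockSum, sum_congr rfl fun v hv => sum_congr rfl fun w hw => h1 v hv w hw]
  conv_rhs =>
    arg 2; ext v; rw [sum_comm]
  rw [sum_comm]
  let F : E → ℤ := fun d => (if P (ends d).1 = a ∧ P (ends d).2 = b then (1 : ℤ) else 0) +
    (if P (ends d).1 = b ∧ P (ends d).2 = a then (1 : ℤ) else 0)
  have hR : ∀ d : E, (∑ v ∈ fib ends e a, ∑ w ∈ fib ends e b,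
      ((if (ends d).1 = v ∧ (ends d).2 = w then (1 : ℤ) else 0) +
        (if (ends d).1 = w ∧ (ends d).2 = v then (1 : ℤ) else 0))) = F d := by
    intro d
    simp only [sum_add_distrib, F]
    congr 1
    · simp only [ite_and, sum_ite_irrel, sum_const_zero, sum_ite_eq, mem_fib]
    · rw [sum_comm]
      simp only [ite_and, sum_ite_irrel, sum_const_zero, sum_ite_eq, mem_fib]
  rw [sum_congr rfl fun d _ => hR d]
  have h0 : ∀ d ∈ D, F d = 0 := by
    intro d hd
    have := DualGr.ctrMk_fst_eq_ctrMk_snd ends D hd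
    simp only [F]
    rw [this]
    rw [if_neg, if_neg, add_zero]
    · rintro ⟨rfl, h⟩; exact hab h.symm
    · rintro ⟨rfl, h⟩; exact hab h
  rw [← sum_add_sum_compl D F, sum_eq_zero h0, zero_add,
    sum_subtype Dᶜ (p := fun d => d ∉ D) fun d => mem_compl]
  rfl

lemma blockSum_row (hC : LabGraph.IsChain ends f e) (hconst : ∀ i j, β (f i) = β (f j))
    (hβ : LabGraph.IsMultFn ends β) (a : DualGr.CtrVert ends D) :
    ∑ b, blockSum β e a b * LabGraph.ctrFn ends D β b = 0 := by
  simp only [blockSum, sum_mul]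
  rw [sum_comm]
  refine sum_eq_zero fun v _ => ?_
  rw [← sum_mf_beta hβ v]
  conv_rhs => rw [← sum_fiberwise univ (fun w : V => P w)]
  refine sum_congr rfl fun b _ => sum_congr rfl fun w hw => ?_
  rw [← mem_fib.mp hw, ctrFn_mk hC hconst]

lemma ctr_pos (hβ : LabGraph.IsMultFn ends β) (a : DualGr.CtrVert ends D) :
    0 < LabGraph.ctrFn ends D β a := (hβ _).1

lemma ctr_sum (hC : LabGraph.IsChain ends f e) (hconst : ∀ i j, β (f i) = β (f j))
    (hβ : LabGraph.IsMultFn ends β) (a : DualGr.CtrVert ends D) :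
    ∑ b ∈ univ.erase a, LabGraph.ctrFn ends D β b *
        (LabGraph.edgeMult (DualGr.ctrEnds ends D) a b : ℤ) =
      -(LabGraph.ctrFn ends D β a * blockSum β e a a) := by
  rw [eq_neg_iff_add_eq_zero, ← blockSum_row hC hconst hβ a, ← add_sum_erase univ _ (mem_univ a),
    add_comm (∑ b ∈ univ.erase a, _), mul_comm (LabGraph.ctrFn ends D β a)]
  congr 1
  exact sum_congr rfl fun b hb => by
    rw [edgeMult_ctr (β := β) hC (ne_of_mem_erase hb).symm, mul_comm]

lemma isMultFn_ctr (hC : LabGraph.IsChain ends f e) (hconst : ∀ i j, β (f i) = β (f j))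
    (hβ : LabGraph.IsMultFn ends β) :
    LabGraph.IsMultFn (DualGr.ctrEnds ends D) (LabGraph.ctrFn ends D β) := fun a =>
  ⟨ctr_pos hβ a, by rw [ctr_sum hC hconst hβ a, dvd_neg]; exact dvd_mul_right _ _⟩

lemma mf_ctr (hC : LabGraph.IsChain ends f e) (hconst : ∀ i j, β (f i) = β (f j))
    (hβ : LabGraph.IsMultFn ends β) (a b : DualGr.CtrVert ends D) :
    LabGraph.mfMatrix (DualGr.ctrEnds ends D) (LabGraph.ctrFn ends D β) a b = blockSum β e a b := by
  rcases eq_or_ne a b with rfl | h
  · rw [LabGraph.mfMatrix, if_pos rfl, ctr_sum hC hconst hβ, neg_neg]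
    exact Int.mul_ediv_cancel_left _ (ctr_pos hβ a).ne'
  · rw [LabGraph.mfMatrix, if_neg h, edgeMult_ctr (β := β) hC h]

local notation "α'" =>
  LabGraph.mfMatrix (DualGr.ctrEnds ends (Finset.image e (Finset.univ : Finset (Fin k))))
    (LabGraph.ctrFn ends (Finset.image e (Finset.univ : Finset (Fin k))) β)

lemma pushV_apply (z : V → ℤ) (a : DualGr.CtrVert ends D) :
    DualGr.pushV ends D z a = ∑ v ∈ fib ends e a, z v := rfl

lemma ctr_mulVec (hC : LabGraph.IsChain ends f e) (hconst : ∀ i j, β (f i) = β (f j))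
    (hβ : LabGraph.IsMultFn ends β) (y : DualGr.CtrVert ends D → ℤ) :
    α' *ᵥ y = DualGr.pushV ends D (α *ᵥ (fun v => y (P v))) := by
  funext a
  rw [pushV_apply]
  simp only [mulVec, dotProduct, mf_ctr hC hconst hβ, blockSum, sum_mul]
  rw [sum_comm]
  refine sum_congr rfl fun v _ => ?_
  conv_rhs => rw [← sum_fiberwise univ (fun w : V => P w)]
  exact sum_congr rfl fun b _ => sum_congr rfl fun w hw => by rw [mem_fib.mp hw]

lemma betaHom_push (hC : LabGraph.IsChain ends f e) (hconst : ∀ i j, β (f i) = β (f j)) (z : V → ℤ) :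
    LabGraph.betaHom (LabGraph.ctrFn ends D β) (DualGr.pushV ends D z) = LabGraph.betaHom β z := by
  rw [betaHom_apply, Chain.betaHom_apply]
  conv_rhs => rw [← sum_fiberwise univ (fun w : V => P w)]
  refine sum_congr rfl fun a _ => ?_
  rw [pushV_apply, sum_mul]
  exact sum_congr rfl fun v hv => by rw [← mem_fib.mp hv, ctrFn_mk hC hconst]

lemma push_single (v : V) (c : ℤ) :
    DualGr.pushV ends D (Pi.single v c) = Pi.single (P v) c := by
  funext a
  rw [pushV_apply, sum_pi_single']
  simp only [mem_fib, Pi.single_apply, eq_comm (a := a)]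

lemma lift_apply (hC : LabGraph.IsChain ends f e) (x : DualGr.CtrVert ends D → ℤ) (v : V) :
    LabGraph.liftAt ends D (f 0) x v =
      if (∃ i, f i = v) ∧ v ≠ f 0 then 0 else x (P v) := by
  unfold LabGraph.liftAt
  refine if_congr ?_ rfl rfl
  rw [and_congr_left_iff]
  intro hv
  rw [ctr_eq_iff hC]
  exact ⟨fun h => (h.resolve_left hv).1, fun h => Or.inr ⟨h, 0, rfl⟩⟩

lemma lift_add (x y : DualGr.CtrVert ends D → ℤ) (v₀ : V) :
    LabGraph.liftAt ends D v₀ (x + y) = LabGraph.liftAt ends D v₀ x + LabGraph.liftAt ends D v₀ y := by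
  funext v
  simp only [LabGraph.liftAt, Pi.add_apply]
  split <;> simp

lemma push_lift (hC : LabGraph.IsChain ends f e) (x : DualGr.CtrVert ends D → ℤ) :
    DualGr.pushV ends D (LabGraph.liftAt ends D (f 0) x) = x := by
  funext a
  obtain ⟨v, rfl⟩ := DualGr.ctrMk_surjective ends D a
  rw [pushV_apply]
  by_cases hv : ∃ i, f i = v
  · obtain ⟨i, rfl⟩ := hv
    rw [ctr_mk_f hC, sum_eq_single (f 0)]
    · rw [lift_apply hC, if_neg (by simp)]
    · intro w hw hne
      rw [lift_apply hC,
        if_pos ⟨(((ctr_eq_iff hC).mp (mem_fib.mp hw)).resolve_left hne).1, hne⟩]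
    · exact fun h => absurd (mem_fib.mpr rfl) h
  · rw [sum_eq_single v]
    · rw [lift_apply hC, if_neg fun h => hv h.1]
    · intro w hw hne
      exact absurd (((ctr_eq_iff hC).mp (mem_fib.mp hw)).resolve_left hne).2 hv
    · exact fun h => absurd (mem_fib.mpr rfl) h

/-! ### Chains with constant multiplicity `k` and diagonal `-2` -/

section Cut

variable (hC : LabGraph.IsChain ends f e) (hconn : ∀ i, LabGraph.IsConnecting ends (e i))

include hC hconn in
/-- each chain edge has a cut with the successor inside -/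
lemma exists_cut {j : ℕ} (hj : j < k) : ∃ T : Finset V, g f (j + 1) ∈ T ∧ g f j ∉ T ∧
    ∀ d : E, d ≠ e ⟨j, hj⟩ → ((ends d).1 ∈ T ↔ (ends d).2 ∈ T) := by
  obtain ⟨S, hS⟩ := hconn ⟨j, hj⟩
  have h0 := (hS (e ⟨j, hj⟩)).mpr rfl
  have hd : ∀ d : E, d ≠ e ⟨j, hj⟩ → ((ends d).1 ∈ S ↔ (ends d).2 ∈ S) := fun d hd => by
    have := mt (hS d).mp hd
    tauto
  by_cases hmem : g f (j + 1) ∈ S
  · refine ⟨S, hmem, ?_, hd⟩
    rcases ends_e hC hj with h | h <;> rw [h] at h0 <;> simp only at h0 <;> tauto
  · refine ⟨Sᶜ, mem_compl.mpr hmem, ?_, fun d h => ?_⟩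
    · rcases ends_e hC hj with h | h <;> rw [h] at h0 <;> simp only at h0 <;>
        simp only [mem_compl] <;> tauto
    · simp only [mem_compl, hd d h]

include hC hconn in
lemma mult_succ {j : ℕ} (hj : j < k) : LabGraph.edgeMult ends (g f j) (g f (j + 1)) = 1 := by
  obtain ⟨T, hT1, hT0, hT⟩ := exists_cut hC hconn hj
  rw [LabGraph.edgeMult, card_eq_one]
  refine ⟨e ⟨j, hj⟩, eq_singleton_iff_unique_mem.mpr
    ⟨mem_filter.mpr ⟨mem_univ _, ends_e hC hj⟩, fun d hd => ?_⟩⟩
  by_contra hne
  have := hT d hne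
  rcases (mem_filter.mp hd).2 with h | h <;> rw [h] at this <;> simp only at this <;> tauto

end Cut

section Diag

variable (hC : LabGraph.IsChain ends f e) (hconn : ∀ i, LabGraph.IsConnecting ends (e i))
  (hβ : LabGraph.IsMultFn ends β) (hβk : ∀ i : Fin (k + 1), β (f i) = (k : ℤ))
  (hα : ∀ i : Fin (k + 1), LabGraph.mfMatrix ends β (f i) (f i) = -2)

include hC hconn in
lemma mf_succ {j : ℕ} (hj : j < k) : α (g f j) (g f (j + 1)) = 1 := by
  rw [mf_of_ne, mult_succ hC hconn hj, Nat.cast_one]
  exact fun h => absurd (g_inj hC hj.le hj h) (by omega)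

include hC hconn hβ hβk hα in
/-- interior vertices only meet their chain neighbours -/
lemma interior_row {j : ℕ} (hj : j + 1 < k) (w : V) :
    α (g f (j + 1)) w = (if w = g f j then 1 else 0) + (if w = g f (j + 1) then -2 else 0) +
      (if w = g f (j + 2) then 1 else 0) := by
  have hb : ∀ i, β (g f i) = k := fun i => hβk _
  have hd : α (g f (j + 1)) (g f (j + 1)) = -2 := hα _
  have h1 : g f j ≠ g f (j + 1) := fun h => absurd (g_inj hC (by omega) hj.le h) (by omega)
  have h2 : g f (j + 2) ≠ g f (j + 1) := fun h => absurd (g_inj hC hj hj.le h) (by omega)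
  have h3 : g f j ≠ g f (j + 2) := fun h => absurd (g_inj hC (by omega) hj h) (by omega)
  have e1 : α (g f (j + 1)) (g f j) = 1 := by rw [mf_symm]; exact mf_succ hC hconn (by omega)
  have e2 : α (g f (j + 1)) (g f (j + 2)) = 1 := mf_succ hC hconn hj
  by_cases hw : w = g f j ∨ w = g f (j + 1) ∨ w = g f (j + 2)
  · rcases hw with rfl | rfl | rfl <;> simp [h1, h1.symm, h2, h2.symm, h3, h3.symm, e1, e2, hd]
  push Not at hw
  rw [if_neg hw.1, if_neg hw.2.1, if_neg hw.2.2]
  have h := sum_mf_beta hβ (g f (j + 1))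
  let rest := (((univ : Finset V).erase (g f (j + 1))).erase (g f j)).erase (g f (j + 2))
  rw [← add_sum_erase univ _ (mem_univ (g f (j + 1))),
    ← add_sum_erase _ _ (mem_erase.mpr ⟨h1, mem_univ _⟩),
    ← add_sum_erase _ _ (mem_erase.mpr ⟨h3.symm, mem_erase.mpr ⟨h2, mem_univ _⟩⟩),
    hd, e1, e2, hb, hb, hb] at h
  have hrest : ∑ x ∈ rest, α (g f (j + 1)) x * β x = 0 := by simp only [rest]; linarith
  have hnn : ∀ x ∈ rest, 0 ≤ α (g f (j + 1)) x * β x := by
    intro x hx
    simp only [rest, mem_erase] at hx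
    rw [mf_of_ne hx.2.2.1.symm]
    exact mul_nonneg (Int.natCast_nonneg _) (hβ x).1.le
  have := (sum_eq_zero_iff_of_nonneg hnn).mp hrest w (by simp [rest, hw])
  simpa [(hβ w).1.ne'] using this

include hC hconn hβ hβk hα in
lemma interior_mulVec {j : ℕ} (hj : j + 1 < k) (z : V → ℤ) :
    (α *ᵥ z) (g f (j + 1)) = z (g f j) - 2 * z (g f (j + 1)) + z (g f (j + 2)) := by
  rw [mulVec_eq]
  simp only [interior_row hC hconn hβ hβk hα hj, add_mul, ite_mul, zero_mul, sum_add_distrib,
    sum_ite_eq', mem_univ, if_true]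
  ring

lemma k_pos (hβ : LabGraph.IsMultFn ends β) (hβk : ∀ i, β (f i) = k) : 0 < k := by
  have := (hβ (f 0)).1
  rw [hβk] at this
  exact_mod_cast this

include hC hconn hβ hβk hα in
/-- a function whose image is the difference of the two ends of the chain -/
lemma exists_ends_diff : ∃ z : V → ℤ, (∀ j ≤ k, z (g f j) = j) ∧
    α *ᵥ z = Pi.single (g f 0) 1 - Pi.single (g f k) 1 := by
  obtain ⟨m, rfl⟩ : ∃ m, k = m + 1 := ⟨k - 1, by have := k_pos hβ hβk; omega⟩
  obtain ⟨T, hT1, hT0, hT⟩ := exists_cut hC hconn (Nat.lt_succ_self m)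
  have hnot : ∀ d ≤ m, g f (m - d) ∉ T := by
    intro d
    induction d with
    | zero => intro _; exact hT0
    | succ d ih =>
      intro hd
      have hlt : m - (d + 1) < m + 1 := by omega
      have h := hT (e ⟨m - (d + 1), hlt⟩) fun h => by
        have := Fin.mk.inj_iff.mp (hC.2.1 h); omega
      have hs : m - (d + 1) + 1 = m - d := by omega
      have := ih (by omega)
      rcases ends_e hC hlt with h' | h' <;> rw [h'] at h <;> simp only [hs] at h <;> tauto
  have hnot' : ∀ j ≤ m, g f j ∉ T := fun j hj => by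
    simpa [Nat.sub_sub_self hj] using hnot (m - j) (by omega)
  -- neighbours stay on one side, except across the last edge
  have hside : ∀ v w : V, v ≠ w → α v w ≠ 0 → (v ∈ T ↔ w ∈ T) ∨
      (v = g f m ∧ w = g f (m + 1)) ∨ (v = g f (m + 1) ∧ w = g f m) := by
    intro v w hvw hne
    rw [mf_of_ne hvw, Int.natCast_ne_zero, LabGraph.edgeMult, Ne, card_eq_zero,
      ← Ne, ← nonempty_iff_ne_empty] at hne
    obtain ⟨d, hd⟩ := hne
    by_cases hde : d = e ⟨m, Nat.lt_succ_self m⟩
    · subst hde
      rcases ends_e hC (Nat.lt_succ_self m) with h1 | h1 <;>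
        rcases (mem_filter.mp hd).2 with h2 | h2 <;> rw [h1, Prod.mk.injEq] at h2 <;> tauto
    · left
      have := hT d hde
      rcases (mem_filter.mp hd).2 with h2 | h2 <;> rw [h2] at this <;> tauto
  let z : V → ℤ := fun v =>
    if v ∈ T then β v else ∑ j ∈ range (m + 1), if v = g f j then (j : ℤ) else 0
  have hzj : ∀ j ≤ m + 1, z (g f j) = j := by
    intro j hj
    rcases hj.eq_or_lt with rfl | hlt
    · simp only [z, if_pos hT1]
      exact hβk _
    · simp only [z, if_neg (hnot' j (by omega))]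
      rw [sum_eq_single j]
      · simp
      · intro i hi hne
        rw [if_neg fun h => hne (g_inj hC (by rw [mem_range] at hi; omega) hj h.symm)]
      · intro h; exact absurd (mem_range.mpr (by omega)) h
  have hzout : ∀ v, v ∉ T → (∀ j ≤ m, v ≠ g f j) → z v = 0 := by
    intro v hv hne
    simp only [z, if_neg hv]
    exact sum_eq_zero fun j hj => if_neg (hne j (by rw [mem_range] at hj; omega))
  refine ⟨z, hzj, funext fun v => ?_⟩
  rw [Pi.sub_apply, Pi.single_apply, Pi.single_apply]
  by_cases hint : ∃ j, j + 1 < m + 1 ∧ v = g f (j + 1)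
  · obtain ⟨j, hj, rfl⟩ := hint
    rw [interior_mulVec hC hconn hβ hβk hα hj, hzj j (by omega), hzj (j + 1) (by omega),
      hzj (j + 2) (by omega), if_neg fun h => absurd (g_inj hC (by omega) (by omega) h) (by omega),
      if_neg fun h => absurd (g_inj hC (by omega) le_rfl h) (by omega)]
    push_cast
    ring
  push Not at hint
  -- `v` is not interior
  rw [mulVec_eq]
  by_cases hvT : v ∈ T
  · have hrow : ∀ w, α v w * z w = α v w * β w +
        (if v = g f (m + 1) ∧ w = g f m then (-1 : ℤ) else 0) := by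
      intro w
      by_cases hc : v = g f (m + 1) ∧ w = g f m
      · obtain ⟨rfl, rfl⟩ := hc
        rw [if_pos ⟨rfl, rfl⟩, mf_symm, mf_succ hC hconn (Nat.lt_succ_self m), hzj m (by omega),
          show β (g f m) = ((m + 1 : ℕ) : ℤ) from hβk _]
        push_cast
        ring
      rw [if_neg hc, add_zero]
      rcases eq_or_ne v w with rfl | hvw
      · simp only [z, if_pos hvT]
      by_cases h0 : α v w = 0
      · rw [h0, zero_mul, zero_mul]
      rcases hside v w hvw h0 with h | ⟨rfl, -⟩ | h
      · simp only [z, if_pos (h.mp hvT)]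
      · exact absurd hvT hT0
      · exact absurd h hc
    rw [sum_congr rfl fun w _ => hrow w, sum_add_distrib, sum_mf_beta hβ, zero_add]
    have hv0 : v ≠ g f 0 := fun h => hnot' 0 (Nat.zero_le _) (h ▸ hvT)
    rw [if_neg hv0, zero_sub]
    by_cases hv : v = g f (m + 1) <;> simp [hv]
  · have hv1 : v ≠ g f (m + 1) := fun h => hvT (h ▸ hT1)
    rw [if_neg hv1, sub_zero]
    have hzv : z v = 0 := by
      by_cases hv : v = g f 0
      · rw [hv, hzj 0 (Nat.zero_le _)]; rfl
      refine hzout v hvT fun j hj => ?_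
      rcases Nat.eq_zero_or_pos j with rfl | hjpos
      · exact hv
      · have := hint (j - 1) (by omega)
        rwa [Nat.sub_add_cancel hjpos] at this
    have hrow : ∀ w, α v w * z w = if v = g f 0 ∧ w = g f 1 then (1 : ℤ) else 0 := by
      intro w
      by_cases hc : v = g f 0 ∧ w = g f 1
      · obtain ⟨rfl, rfl⟩ := hc
        rw [if_pos ⟨rfl, rfl⟩, mf_succ hC hconn (by omega), hzj 1 (by omega)]
        rfl
      rw [if_neg hc]
      rcases eq_or_ne v w with rfl | hvw
      · rw [hzv, mul_zero]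
      by_cases h0 : α v w = 0
      · rw [h0, zero_mul]
      rcases hside v w hvw h0 with h | ⟨rfl, rfl⟩ | ⟨rfl, -⟩
      · have hwT : w ∉ T := fun hw => hvT (h.mpr hw)
        by_cases hw : ∃ j ≤ m, w = g f j
        · obtain ⟨j, hj, rfl⟩ := hw
          rcases Nat.eq_zero_or_pos j with rfl | hjpos
          · rw [hzj 0 (Nat.zero_le _)]; simp
          · exfalso
            obtain ⟨i, rfl⟩ : ∃ i, j = i + 1 := ⟨j - 1, by omega⟩
            have hr := interior_row hC hconn hβ hβk hα (by omega : i + 1 < m + 1) v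
            rw [← mf_symm] at hr
            have hv2 : v ≠ g f (i + 2) := by
              rcases (show i + 2 ≤ m ∨ i + 2 = m + 1 by omega) with h' | h'
              · exact hint (i + 1) (by omega)
              · rw [h']; exact hv1
            rw [if_neg hv2, if_neg hvw, add_zero, add_zero] at hr
            by_cases hv : v = g f i
            · rcases Nat.eq_zero_or_pos i with rfl | hipos
              · exact hc ⟨hv, rfl⟩
              · have := hint (i - 1) (by omega)
                rw [Nat.sub_add_cancel hipos] at this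
                exact this hv
            · rw [if_neg hv] at hr; exact h0 hr
        · push Not at hw
          rw [hzout w hwT hw, mul_zero]
      · exfalso
        rcases Nat.eq_zero_or_pos m with rfl | hmpos
        · exact hc ⟨rfl, rfl⟩
        · have := hint (m - 1) (by omega)
          rw [Nat.sub_add_cancel hmpos] at this
          exact this rfl
      · exact absurd rfl hv1
    rw [sum_congr rfl fun w _ => hrow w]
    by_cases hv : v = g f 0 <;> simp [hv]

include hC hconn hβ hβk hα in
lemma interior_const {y : DualGr.CtrVert ends D → ℤ} {j : ℕ} (hj : j + 1 < k) :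
    (α *ᵥ fun v => y (P v)) (g f (j + 1)) = 0 := by
  rw [interior_mulVec hC hconn hβ hβk hα hj, ctr_chain hC j (by omega), ctr_chain hC _ hj.le,
    ctr_chain hC _ (by omega)]
  ring

include hC in
lemma lift_push (z : V → ℤ) (hz : ∀ j, j + 1 < k → z (g f (j + 1)) = 0) (hk : 0 < k) :
    LabGraph.liftAt ends D (f 0) (DualGr.pushV ends D z) =
      z + z (g f k) • (Pi.single (g f 0) 1 - Pi.single (g f k) 1) := by
  funext v
  have h0k : g f 0 ≠ g f k := fun h => absurd (g_inj hC (Nat.zero_le _) le_rfl h) (by omega)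
  have hchain : ∀ w, (∃ i, f i = w) → w ≠ g f 0 → w ≠ g f k → z w = 0 := by
    rintro w ⟨i, rfl⟩ h1 h2
    rw [← g_val (f := f) i] at h1 h2 ⊢
    have hi0 : i.val ≠ 0 := fun h => h1 (by rw [h])
    have hik : i.val ≠ k := fun h => h2 (by rw [h])
    have := hz (i.val - 1) (by have := i.isLt; omega)
    rwa [Nat.sub_add_cancel (by omega)] at this
  have hzero : (∃ i, f i = g f 0) ∧ ∃ i, f i = g f k := ⟨⟨_, rfl⟩, ⟨_, rfl⟩⟩
  rw [Pi.add_apply, Pi.smul_apply, Pi.sub_apply, Pi.single_apply, Pi.single_apply, smul_eq_mul,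
    lift_apply hC, pushV_apply]
  by_cases hv : ∃ i, f i = v
  · by_cases hv0 : v = g f 0
    · subst hv0
      rw [if_neg fun h => h.2 g_zero, if_pos rfl, if_neg h0k,
        ← sum_subset (s₁ := {g f 0, g f k}) (fun w hw => ?_) fun w hw hw' => ?_, sum_pair h0k]
      · ring
      · simp only [mem_insert, mem_singleton] at hw
        rcases hw with rfl | rfl
        · exact mem_fib.mpr rfl
        · exact mem_fib.mpr ((ctr_eq_iff hC).mpr (Or.inr ⟨hzero.2, hzero.1⟩))
      · simp only [mem_insert, mem_singleton, not_or] at hw'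
        exact hchain w (((ctr_eq_iff hC).mp (mem_fib.mp hw)).resolve_left hw'.1).1 hw'.1 hw'.2
    · rw [if_pos ⟨hv, by rwa [← g_zero (f := f)]⟩, if_neg hv0]
      by_cases hvk : v = g f k
      · subst hvk; rw [if_pos rfl]; ring
      · rw [if_neg hvk, hchain v hv hv0 hvk]; ring
  · rw [if_neg fun h => hv h.1, if_neg fun (h : v = g f 0) => hv (h.symm ▸ hzero.1), if_neg fun (h : v = g f k) => hv (h.symm ▸ hzero.2),
      sum_eq_single v]
    · ring
    · intro w hw hne
      exact absurd (((ctr_eq_iff hC).mp (mem_fib.mp hw)).resolve_left hne).2 hv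
    · exact fun h => absurd (mem_fib.mpr rfl) h

include hC hconn hβ hβk hα in
/-- the lift carries the image of `α'` into the image of `α` -/
lemma lift_range (y : DualGr.CtrVert ends D → ℤ) :
    ∃ z, α *ᵥ z = LabGraph.liftAt ends D (f 0) (α' *ᵥ y) := by
  obtain ⟨z0, -, hz0⟩ := exists_ends_diff hC hconn hβ hβk hα
  refine ⟨(fun v => y (P v)) + (α *ᵥ fun v => y (P v)) (g f k) • z0, ?_⟩
  rw [mulVec_add, mulVec_smul, hz0, ctr_mulVec hC (fun i j => by rw [hβk, hβk]) hβ,
    lift_push hC _ (fun j hj => interior_const hC hconn hβ hβk hα hj) (k_pos hβ hβk)]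

include hC hconn hβ hβk hα in
/-- injectivity -/
lemma mem_range_of_lift (x : DualGr.CtrVert ends D → ℤ) {z : V → ℤ}
    (hz : α *ᵥ z = LabGraph.liftAt ends D (f 0) x) : ∃ y, α' *ᵥ y = x := by
  obtain ⟨z0, hz0j, hz0⟩ := exists_ends_diff hC hconn hβ hβk hα
  set d := z (g f 1) - z (g f 0) with hd
  have hzero : ∀ j, j + 1 < k → (α *ᵥ z) (g f (j + 1)) = 0 := by
    intro j hj
    have hne : g f (j + 1) ≠ f 0 := by
      rw [← g_zero (f := f)]
      exact fun h => absurd (g_inj hC hj.le (Nat.zero_le _) h) (by omega)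
    rw [hz, lift_apply hC, if_pos ⟨⟨_, rfl⟩, hne⟩]
  have hlin : ∀ j : ℕ, ∀ i ≤ j, i ≤ k → z (g f i) = z (g f 0) + i * d := by
    intro j
    induction j with
    | zero => intro i hi _; rw [Nat.le_zero.mp hi]; simp
    | succ j ih =>
      intro i hi hik
      rcases hi.eq_or_lt with rfl | hlt
      · rcases Nat.eq_zero_or_pos j with rfl | hjpos
        · simp [hd]
        · obtain ⟨l, rfl⟩ : ∃ l, j = l + 1 := ⟨j - 1, by omega⟩
          have h := hzero l hik
          rw [interior_mulVec hC hconn hβ hβk hα hik, ih l (by omega) (by omega),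
            ih (l + 1) le_rfl (by omega)] at h
          push_cast at h ⊢
          linarith
      · exact ih i (by omega) hik
  set z' := z - d • z0 with hz'
  have hconst : ∀ v w, P v = P w → z' v = z' w := by
    intro v w h
    rcases (ctr_eq_iff hC).mp h with rfl | ⟨⟨i, rfl⟩, l, rfl⟩
    · rfl
    · rw [← g_val (f := f) i, ← g_val (f := f) l, hz']
      simp only [Pi.sub_apply, Pi.smul_apply, smul_eq_mul]
      rw [hz0j _ (Nat.le_of_lt_succ i.isLt), hz0j _ (Nat.le_of_lt_succ l.isLt),
        hlin _ _ le_rfl (Nat.le_of_lt_succ i.isLt), hlin _ _ le_rfl (Nat.le_of_lt_succ l.isLt)]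
      ring
  refine ⟨fun a => z' (Quotient.out (s := DualGr.ctrSetoid ends D) a), ?_⟩
  have hcomp : (fun v => z' (Quotient.out (s := DualGr.ctrSetoid ends D) (P v))) = z' :=
    funext fun v => hconst _ _ (Quotient.out_eq (s := DualGr.ctrSetoid ends D) (P v))
  rw [ctr_mulVec hC (fun i j => by rw [hβk, hβk]) hβ, hcomp, hz', mulVec_sub, mulVec_smul, hz, hz0,
    map_sub, map_smul, push_lift hC, map_sub, push_single, push_single,
    ctr_chain hC k le_rfl, g_zero, sub_self, smul_zero, sub_zero]

include hC hconn hβ hβk hα in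
lemma exists_diff_step : ∀ j ≤ k, ∃ (u : V → ℤ) (c : ℤ),
    (Pi.single (g f j) 1 - Pi.single (g f 0) 1 : V → ℤ) =
      α *ᵥ u + c • (Pi.single (g f 1) 1 - Pi.single (g f 0) 1) := by
  intro j
  induction j using Nat.strong_induction_on with
  | _ j ih =>
    intro hj
    match j with
    | 0 => exact ⟨0, 0, by simp⟩
    | 1 => exact ⟨0, 1, by simp⟩
    | l + 2 =>
      obtain ⟨u1, c1, h1⟩ := ih l (by omega) (by omega)
      obtain ⟨u2, c2, h2⟩ := ih (l + 1) (by omega) (by omega)
      refine ⟨Pi.single (g f (l + 1)) 1 + (2 : ℤ) • u2 - u1, 2 * c2 - c1, ?_⟩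
      have hcol : α *ᵥ Pi.single (g f (l + 1)) 1 = Pi.single (g f l) 1 +
          (-2 : ℤ) • Pi.single (g f (l + 1)) 1 + Pi.single (g f (l + 2)) 1 := by
        funext v
        rw [mulVec_single_one, col_apply, mf_symm,
          interior_row hC hconn hβ hβk hα (by omega) v]
        simp [Pi.single_apply]
        split_ifs <;> rfl
      funext v
      have e1 := congrFun h1 v
      have e2 := congrFun h2 v
      simp only [mulVec_sub, mulVec_add, mulVec_smul, hcol, Pi.sub_apply, Pi.add_apply, Pi.smul_apply,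
        smul_eq_mul] at e1 e2 ⊢
      linarith

include hC hconn hβ hβk hα in
/-- surjectivity -/
lemma exists_lift (y : V → ℤ) : ∃ (x : DualGr.CtrVert ends D → ℤ) (z : V → ℤ),
    y = LabGraph.liftAt ends D (f 0) x + α *ᵥ z := by
  have hk := k_pos hβ hβk
  let M : Submodule ℤ (V → ℤ) := LinearMap.range
    (((⟨⟨LabGraph.liftAt ends D (f 0), fun x y => lift_add x y (f 0)⟩, fun c x => by
        funext v
        simp only [LabGraph.liftAt, Pi.smul_apply, RingHom.id_apply]
        split <;> simp⟩ : (DualGr.CtrVert ends D → ℤ) →ₗ[ℤ] (V → ℤ)).coprod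
      (Matrix.mulVecLin α)))
  suffices h : y ∈ M by
    obtain ⟨⟨x, z⟩, h⟩ := h
    exact ⟨x, z, h.symm⟩
  have hlift : ∀ x, LabGraph.liftAt ends D (f 0) x ∈ M := fun x => ⟨(x, 0), by simp⟩
  have hrange : ∀ z, α *ᵥ z ∈ M := fun z => ⟨(0, z), by
    simp only [LinearMap.coprod_apply, mulVecLin_apply, map_zero, zero_add]⟩
  have hout : ∀ v, (∀ i, f i ≠ v) → (Pi.single v 1 : V → ℤ) ∈ M := by
    intro v hv
    convert hlift (Pi.single (P v) 1) using 1
    funext w
    rw [lift_apply hC, Pi.single_apply, Pi.single_apply]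
    by_cases hw : (∃ i, f i = w) ∧ w ≠ f 0
    · rw [if_pos hw, if_neg]
      rintro rfl
      exact hv _ hw.1.choose_spec
    · rw [if_neg hw]
      refine if_congr ?_ rfl rfl
      rw [ctr_eq_iff hC]
      exact ⟨Or.inl, fun h => h.resolve_right fun h' => hv _ h'.2.choose_spec⟩
  have h0 : (Pi.single (f 0) 1 : V → ℤ) ∈ M := by
    convert hlift (Pi.single (P (f 0)) 1) using 1
    funext w
    rw [lift_apply hC, Pi.single_apply, Pi.single_apply]
    by_cases hw : (∃ i, f i = w) ∧ w ≠ f 0
    · rw [if_pos hw, if_neg hw.2]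
    · rw [if_neg hw]
      refine if_congr ?_ rfl rfl
      rw [ctr_eq_iff hC]
      refine ⟨Or.inl, fun h => h.elim id fun h' => ?_⟩
      by_contra hne
      exact hw ⟨h'.1, hne⟩
  have hsum : ∀ z : V → ℤ, (∀ w, z w ≠ 0 → (Pi.single w 1 : V → ℤ) ∈ M) → z ∈ M := by
    intro z hz
    rw [← univ_sum_single z]
    refine sum_mem fun w _ => ?_
    by_cases h : z w = 0
    · rw [h, Pi.single_zero]; exact zero_mem _
    · rw [show (Pi.single w (z w) : V → ℤ) = z w • Pi.single w 1 by
        rw [← Pi.single_smul, smul_eq_mul, mul_one]]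
      exact M.smul_mem _ (hz w h)
  have h1 : (Pi.single (g f 1) 1 : V → ℤ) ∈ M := by
    have hcol : α *ᵥ Pi.single (f 0) 1 - Pi.single (g f 1) 1 ∈ M := by
      refine hsum _ fun w hw => ?_
      by_cases hw' : ∃ i, f i = w
      · obtain ⟨i, rfl⟩ := hw'
        rw [← g_val (f := f) i] at hw ⊢
        rcases Nat.eq_zero_or_pos i.val with hi | hi
        · rw [hi, g_zero]; exact h0
        exfalso
        apply hw
        rw [Pi.sub_apply, mulVec_single_one, col_apply, Pi.single_apply, ← g_zero (f := f)]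
        rcases (Nat.succ_le_of_lt hi).eq_or_lt with hi1 | hi1
        · rw [← hi1, if_pos rfl, mf_symm, mf_succ hC hconn hk, sub_self]
        rw [if_neg fun h => absurd (g_inj hC (Nat.le_of_lt_succ i.isLt) hk h) (by omega)]
        rcases (Nat.le_of_lt_succ i.isLt).eq_or_lt with hik | hik
        · obtain ⟨z0, hz0j, hz0⟩ := exists_ends_diff hC hconn hβ hβk hα
          obtain ⟨T, hT1, hT0, hT⟩ := exists_cut hC hconn hk
          have hin : ∀ j, 0 < j → j ≤ k → g f j ∈ T := by
            intro j
            induction j with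
            | zero => intro h; omega
            | succ l ih =>
              intro _ hl
              rcases Nat.eq_zero_or_pos l with rfl | hl0
              · exact hT1
              · have h := hT (e ⟨l, hl⟩) fun h => by
                  have := Fin.mk.inj_iff.mp (hC.2.1 h); omega
                have := ih hl0 (by omega)
                rcases ends_e hC (show l < k by omega) with h' | h' <;> rw [h'] at h <;>
                  simp only at h <;> tauto
          rw [sub_zero, mf_symm, mf_of_ne (fun h => absurd (g_inj hC (Nat.zero_le _) (by omega) h) (by omega))]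
          rw [Int.natCast_eq_zero, LabGraph.edgeMult, card_eq_zero]
          refine filter_eq_empty_iff.mpr fun d _ hd => ?_
          have hmem := hin i.val hi (by omega)
          rw [zero_add] at hT1
          by_cases hde : d = e ⟨0, hk⟩
          · subst hde
            have hne : g f i.val ≠ g f 1 := fun h =>
              absurd (g_inj hC (by omega) hk h) (by omega)
            have hne0 : g f i.val ≠ g f 0 := fun h => hT0 (h ▸ hmem)
            rcases ends_e hC hk with h' | h' <;> rcases hd with h2 | h2 <;>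
              rw [h', Prod.mk.injEq] at h2 <;>
              first
              | exact hne h2.2.symm
              | exact hne h2.1.symm
              | exact hne0 h2.1.symm
              | exact hne0 h2.2.symm
          · have := hT d hde
            rcases hd with h2 | h2 <;> rw [h2] at this <;> simp only at this <;> tauto
        · obtain ⟨l, hl⟩ : ∃ l, i.val = l + 1 := ⟨i.val - 1, by omega⟩
          rw [sub_zero, hl, interior_row hC hconn hβ hβk hα (by omega) (g f 0),
            if_neg fun h => absurd (g_inj hC (Nat.zero_le _) (by omega) h) (by omega),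
            if_neg fun h => absurd (g_inj hC (Nat.zero_le _) (by omega) h) (by omega),
            if_neg fun h => absurd (g_inj hC (Nat.zero_le _) (by omega) h) (by omega)]
          rfl
      · exact hout w (not_exists.mp hw')
    simpa using sub_mem (hrange (Pi.single (f 0) 1)) hcol
  refine hsum y fun w _ => ?_
  by_cases hw : ∃ i, f i = w
  · obtain ⟨i, rfl⟩ := hw
    rw [← g_val (f := f) i]
    obtain ⟨u, c, hu⟩ := exists_diff_step hC hconn hβ hβk hα i.val (Nat.le_of_lt_succ i.isLt)
    rw [sub_eq_iff_eq_add] at hu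
    rw [hu, g_zero]
    exact add_mem (add_mem (hrange u) (M.smul_mem c (sub_mem h1 h0))) h0
  · exact hout w (not_exists.mp hw)

end Diag

end Groth.Agent.Lib.LabGraph.Chain
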