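import Groth.Prelude.Def_W4c1nerontoraddGraph
import Mathlib.Algebra.BigOperators.Ring.Finset
import Mathlib.Data.Fintype.BigOperators
import Mathlib.Algebra.Field.ZMod
import Mathlib.Data.ZMod.Basic
import Mathlib.Data.Fintype.Powerset
import Mathlib.Tactic.Ring
import Mathlib.Tactic.LinearCombination
import Mathlib.Tactic.Abel
import Mathlib.RingTheory.PrincipalIdealDomain
import Mathlib.RingTheory.Int.Basic
import Mathlib.Algebra.CharP.Two

/-!
Circuits, parity and potentials on finite multigraphs.
-/

universe u w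

namespace Groth.Agent.Lib.LabGraph.Circuits

open _root_.LabGraph

variable {V E : Type u} [Fintype V] [Fintype E] [DecidableEq V] [DecidableEq E]
variable (ends : E → V × V)

/-- adjacency along the edges of `F` -/
def AdjIn (F : Finset E) (a b : V) : Prop := ∃ e ∈ F, ends e = (a, b) ∨ ends e = (b, a)

/-- parity of the number of edge-ends at `v` -/
def par (C : Finset E) (v : V) : ZMod 2 := (endCount ends C v : ZMod 2)

/-- indicator of the pair of endpoints -/
def pt (a b : V) (v : V) : ZMod 2 := (if a = v then 1 else 0) + (if b = v then 1 else 0)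

lemma par_eq_sum (C : Finset E) (v : V) :
    par ends C v = ∑ e ∈ C, pt (ends e).1 (ends e).2 v := by
  simp [par, endCount, pt]

lemma even_iff (C : Finset E) (v : V) : Even (endCount ends C v) ↔ par ends C v = 0 := by
  rw [par, ZMod.natCast_eq_zero_iff_even]

lemma par_sdiff {C C' : Finset E} (h : C' ⊆ C) (v : V) :
    par ends (C \ C') v = par ends C v - par ends C' v := by
  simp only [par_eq_sum, Finset.sum_sdiff_eq_sub h]

lemma par_insert {C : Finset E} {e : E} (he : e ∉ C) (v : V) :
    par ends (insert e C) v = pt (ends e).1 (ends e).2 v + par ends C v := by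
  simp only [par_eq_sum, Finset.sum_insert he]

lemma par_erase {C : Finset E} {e : E} (he : e ∈ C) (v : V) :
    par ends (C.erase e) v = par ends C v - pt (ends e).1 (ends e).2 v := by
  simp only [par_eq_sum, Finset.sum_erase_eq_sub he]

lemma adjIn_mono {F F' : Finset E} (h : F ⊆ F') {a b : V}
    (hab : Relation.ReflTransGen (AdjIn ends F) a b) : Relation.ReflTransGen (AdjIn ends F') a b :=
  Relation.ReflTransGen.mono (fun _ _ ⟨e, he, he'⟩ ↦ ⟨e, h he, he'⟩) _ _ hab

lemma adjIn_symm {F : Finset E} {a b : V}
    (hab : Relation.ReflTransGen (AdjIn ends F) a b) : Relation.ReflTransGen (AdjIn ends F) b a := by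
  induction hab with
  | refl => exact .refl
  | tail _ h ih => exact .head (h.imp fun e he ↦ ⟨he.1, he.2.symm⟩) ih

lemma adjIn_edge {F : Finset E} {e : E} (he : e ∈ F) :
    Relation.ReflTransGen (AdjIn ends F) (ends e).1 (ends e).2 :=
  .single ⟨e, he, Or.inl rfl⟩

lemma reachable_univ (hconn : Connected ends) (a b : V) :
    Relation.ReflTransGen (AdjIn ends Finset.univ) a b :=
  Relation.ReflTransGen.mono (fun _ _ ⟨e, he⟩ ↦ ⟨e, Finset.mem_univ e, he⟩) _ _ (hconn.2 a b)

/-- a connection gives an edge set with the two endpoints as odd vertices -/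
lemma exists_par {F : Finset E} {a b : V} (hab : Relation.ReflTransGen (AdjIn ends F) a b) :
    ∃ P ⊆ F, ∀ v, par ends P v = pt a b v := by
  induction hab with
  | refl =>
    refine ⟨∅, Finset.empty_subset _, fun v ↦ ?_⟩
    simp only [par_eq_sum, Finset.sum_empty, pt]
    exact (CharTwo.add_self_eq_zero _).symm
  | @tail c d _ hcd ih =>
    obtain ⟨P, hP, hPv⟩ := ih
    obtain ⟨e, he, he'⟩ := hcd
    have hpt : ∀ v, pt (ends e).1 (ends e).2 v = pt c d v := fun v ↦ by
      rcases he' with h | h <;> simp [h, pt, add_comm]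
    by_cases heP : e ∈ P
    · refine ⟨P.erase e, (Finset.erase_subset _ _).trans hP, fun v ↦ ?_⟩
      rw [par_erase ends heP, hPv, hpt, CharTwo.sub_eq_add]
      simp only [pt]
      linear_combination CharTwo.add_self_eq_zero (if c = v then (1 : ZMod 2) else 0)
    · refine ⟨insert e P, Finset.insert_subset he hP, fun v ↦ ?_⟩
      rw [par_insert ends heP, hPv, hpt]
      simp only [pt]
      linear_combination CharTwo.add_self_eq_zero (if c = v then (1 : ZMod 2) else 0)

/-- an edge set with odd vertices `a ≠ b` connects them -/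
lemma reachable_of_par {P : Finset E} {a b : V} (hP : ∀ v, par ends P v = pt a b v) :
    Relation.ReflTransGen (AdjIn ends P) a b := by
  classical
  by_contra hb
  let K : Finset V := Finset.univ.filter fun v ↦ Relation.ReflTransGen (AdjIn ends P) a v
  have haK : a ∈ K := by simp [K, Relation.ReflTransGen.refl]
  have hbK : b ∉ K := by simp [K, hb]
  have h1 : ∑ v ∈ K, pt a b v = 1 := by
    simp only [pt, Finset.sum_add_distrib, Finset.sum_ite_eq, haK, if_true, hbK, if_false,
      add_zero]
  have h2 : ∑ v ∈ K, par ends P v = 0 := by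
    simp only [par_eq_sum]
    rw [Finset.sum_comm]
    refine Finset.sum_eq_zero fun e he ↦ ?_
    have hiff : (ends e).1 ∈ K ↔ (ends e).2 ∈ K := by
      simp only [K, Finset.mem_filter, Finset.mem_univ, true_and]
      exact ⟨fun h ↦ h.trans (adjIn_edge ends he), fun h ↦ h.trans (adjIn_symm ends (adjIn_edge ends he))⟩
    simp only [pt, Finset.sum_add_distrib, Finset.sum_ite_eq, hiff]
    exact CharTwo.add_self_eq_zero _
  rw [Finset.sum_congr rfl fun v _ ↦ hP v, h1] at h2
  exact one_ne_zero h2

lemma isCircuit_loop {e : E} (h : (ends e).1 = (ends e).2) : IsCircuit ends {e} := by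
  refine ⟨Finset.singleton_nonempty e, fun v ↦ ?_, fun C' hC' hne ↦ ?_⟩
  · rw [even_iff, par_eq_sum, Finset.sum_singleton, h]
    exact CharTwo.add_self_eq_zero _
  · rw [Finset.ssubset_singleton_iff] at hC'
    exact (hne.ne_empty hC').elim

/-- an edge closing a connection gives a circuit -/
lemma exists_circuit {F : Finset E} {e : E} (he : e ∉ F)
    (hab : Relation.ReflTransGen (AdjIn ends F) (ends e).1 (ends e).2) :
    ∃ C, IsCircuit ends C ∧ e ∈ C ∧ C ⊆ insert e F := by
  classical
  by_cases hne : (ends e).1 = (ends e).2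
  · exact ⟨{e}, isCircuit_loop ends hne, Finset.mem_singleton_self e,
      Finset.singleton_subset_iff.2 (Finset.mem_insert_self e F)⟩
  obtain ⟨P₀, hP₀, hP₀v⟩ := exists_par ends hab
  obtain ⟨P, hP, hPmin⟩ := (Finset.univ.filter fun P : Finset E ↦
      P ⊆ F ∧ ∀ v, par ends P v = pt (ends e).1 (ends e).2 v).exists_minimal
    ⟨P₀, by simp [hP₀, hP₀v]⟩
  rw [Finset.mem_filter] at hP
  obtain ⟨-, hPF, hPv⟩ := hP
  have heP : e ∉ P := fun h ↦ he (hPF h)
  have hmin : ∀ Q ⊂ P, ¬ ∀ v, par ends Q v = pt (ends e).1 (ends e).2 v := by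
    intro Q hQ hQv
    exact hQ.not_subset (hPmin (Finset.mem_filter.2 ⟨Finset.mem_univ _, hQ.subset.trans hPF, hQv⟩) hQ.subset)
  refine ⟨insert e P, ⟨Finset.insert_nonempty e P, fun v ↦ ?_, fun C' hC' hne' ↦ ?_⟩,
    Finset.mem_insert_self e P, Finset.insert_subset_insert e hPF⟩
  · rw [even_iff, par_insert ends heP, hPv]
    exact CharTwo.add_self_eq_zero _
  · by_contra hc
    push Not at hc
    simp only [even_iff] at hc
    by_cases heC : e ∈ C'
    · refine hmin (C'.erase e) ?_ fun v ↦ ?_
      · refine (Finset.ssubset_iff_subset_ne).2 ⟨fun x hx ↦ ?_, fun h ↦ hC'.ne ?_⟩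
        · obtain ⟨hxe, hx⟩ := Finset.mem_erase.1 hx
          exact (Finset.mem_insert.1 (hC'.subset hx)).resolve_left hxe
        · rw [← Finset.insert_erase heC, h]
      · rw [par_erase ends heC, hc, zero_sub, CharTwo.neg_eq]
    · have hsub : C' ⊆ P := (Finset.subset_insert_iff_of_notMem heC).1 hC'.subset
      refine hmin (P \ C') (Finset.sdiff_ssubset hsub hne') fun v ↦ ?_
      rw [par_sdiff ends hsub, hc, sub_zero, hPv]

/-- removing an edge of a circuit leaves its endpoints connected -/
lemma reachable_erase {C : Finset E} (hC : IsCircuit ends C) {e : E} (he : e ∈ C) :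
    Relation.ReflTransGen (AdjIn ends (C.erase e)) (ends e).1 (ends e).2 := by
  refine reachable_of_par ends fun v ↦ ?_
  rw [par_erase ends he, (even_iff ends C v).1 (hC.2.1 v), zero_sub, CharTwo.neg_eq]

/-- A function on edges which is a gradient on every circuit is a gradient. -/
lemma exists_potential {M : Type w} [AddCommGroup M] (F : Finset E) (x : E → M)
    (hx : ∀ C, IsCircuit ends C → C ⊆ F → ∃ h : V → M, ∀ e ∈ C, h (ends e).2 - h (ends e).1 = x e) :
    ∃ g : V → M, ∀ e ∈ F, g (ends e).2 - g (ends e).1 = x e := by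
  classical
  induction F using Finset.induction with
  | empty => exact ⟨0, fun e he ↦ absurd he (Finset.notMem_empty e)⟩
  | @insert e F he ih =>
    obtain ⟨g, hg⟩ := ih fun C hC hCF ↦ hx C hC (hCF.trans (Finset.subset_insert e F))
    by_cases hab : Relation.ReflTransGen (AdjIn ends F) (ends e).1 (ends e).2
    · refine ⟨g, fun e' he' ↦ ?_⟩
      rcases Finset.mem_insert.1 he' with rfl | he'
      · obtain ⟨C, hC, heC, hCF⟩ := exists_circuit ends he hab
        obtain ⟨h, hh⟩ := hx C hC hCF
        have hpath : ∀ v, Relation.ReflTransGen (AdjIn ends (C.erase e')) (ends e').1 v →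
            g v - h v = g (ends e').1 - h (ends e').1 := by
          intro v hv
          induction hv with
          | refl => rfl
          | tail _ hcd ih =>
            obtain ⟨f, hf, hf'⟩ := hcd
            obtain ⟨hfe, hfC⟩ := Finset.mem_erase.1 hf
            have h1 := hg f ((Finset.mem_insert.1 (hCF hfC)).resolve_left hfe)
            have h2 := hh f hfC
            rw [← ih]
            rcases hf' with hf' | hf' <;> rw [hf'] at h1 h2 <;> dsimp only at h1 h2
            · rw [← h1] at h2; rw [sub_eq_sub_iff_sub_eq_sub, h2]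
            · rw [← h1] at h2; rw [sub_eq_sub_iff_sub_eq_sub, ← neg_inj, neg_sub, neg_sub, h2]
        have := hpath _ (reachable_erase ends hC heC)
        rw [← hh e' heC]
        rwa [sub_eq_sub_iff_sub_eq_sub] at this
      · exact hg e' he'
    · let d := x e - (g (ends e).2 - g (ends e).1)
      refine ⟨fun v ↦ if Relation.ReflTransGen (AdjIn ends F) (ends e).1 v then g v - d else g v,
        fun e' he' ↦ ?_⟩
      rcases Finset.mem_insert.1 he' with rfl | he'
      · simp only [if_neg hab, if_pos Relation.ReflTransGen.refl, d]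
        abel
      · have hiff : Relation.ReflTransGen (AdjIn ends F) (ends e).1 (ends e').1 ↔
            Relation.ReflTransGen (AdjIn ends F) (ends e).1 (ends e').2 :=
          ⟨fun h ↦ h.trans (adjIn_edge ends he'), fun h ↦ h.trans (adjIn_symm ends (adjIn_edge ends he'))⟩
        simp only [hiff]
        split_ifs <;> rw [← hg e' he'] <;> abel

/-- a connection gives an integral flow -/
lemma exists_flow {F : Finset E} {a b : V} (hab : Relation.ReflTransGen (AdjIn ends F) a b) :
    ∃ γ : E → ℤ, (∀ e ∉ F, γ e = 0) ∧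
      ∀ v, boundary ends γ v = (if b = v then 1 else 0) - (if a = v then 1 else 0) := by
  induction hab with
  | refl => exact ⟨0, fun _ _ ↦ rfl, fun v ↦ by simp [boundary]⟩
  | @tail c d _ hcd ih =>
    obtain ⟨γ, hγ, hγv⟩ := ih
    obtain ⟨e, he, he'⟩ := hcd
    have key : ∀ (s : ℤ) v, boundary ends (fun f ↦ γ f + if f = e then s else 0) v =
        boundary ends γ v + s * ((if (ends e).2 = v then 1 else 0) - (if (ends e).1 = v then 1 else 0)) := by
      intro s v
      have : s * ((if (ends e).2 = v then 1 else 0) - (if (ends e).1 = v then 1 else 0)) =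
          ∑ f : E, if f = e then ((if (ends f).2 = v then s else 0) - (if (ends f).1 = v then s else 0))
            else 0 := by
        rw [Finset.sum_ite_eq' Finset.univ e, if_pos (Finset.mem_univ e)]
        split_ifs <;> ring
      rw [this]
      simp only [boundary, ← Finset.sum_add_distrib]
      refine Finset.sum_congr rfl fun f _ ↦ ?_
      split_ifs <;> ring
    rcases he' with h | h
    · refine ⟨fun f ↦ γ f + if f = e then 1 else 0, fun f hf ↦ ?_, fun v ↦ ?_⟩
      · simp [hγ f hf, show f ≠ e from fun h ↦ hf (h ▸ he)]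
      · rw [key, hγv, h]; ring
    · refine ⟨fun f ↦ γ f + if f = e then -1 else 0, fun f hf ↦ ?_, fun v ↦ ?_⟩
      · simp [hγ f hf, show f ≠ e from fun h ↦ hf (h ▸ he)]
      · rw [key, hγv, h]; ring

/-- gradients are orthogonal to cycles -/
lemma sum_mul_grad {γ : E → ℤ} (hγ : ∀ v, boundary ends γ v = 0) (φ : V → ℤ) :
    ∑ e, γ e * (φ (ends e).2 - φ (ends e).1) = 0 := by
  have h : ∑ v, φ v * boundary ends γ v = ∑ e, γ e * (φ (ends e).2 - φ (ends e).1) := by
    simp only [boundary, Finset.mul_sum]
    rw [Finset.sum_comm]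
    refine Finset.sum_congr rfl fun e _ ↦ ?_
    simp only [mul_sub, mul_ite, mul_zero, Finset.sum_sub_distrib, Finset.sum_ite_eq,
      Finset.mem_univ, if_true]
    ring
  simp [← h, hγ]

/-- local-to-global: a set of integers closed under linear combinations which contains, for every
prime `p`, a non-multiple of `p`, contains `1` -/
lemma mem_of_local (I : Ideal ℤ) (h : ∀ p : ℕ, p.Prime → ∃ c ∈ I, ¬ (p : ℤ) ∣ c) : (1 : ℤ) ∈ I := by
  rw [← Ideal.eq_top_iff_one]
  by_contra hI
  obtain ⟨m, hm, hle⟩ := I.exists_le_maximal hI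
  obtain ⟨g, rfl⟩ := (IsPrincipalIdealRing.principal m).principal
  have hg0 : g ≠ 0 := by
    rintro rfl
    obtain ⟨c, hc, hc'⟩ := h 2 Nat.prime_two
    have := hle hc
    rw [Submodule.mem_span_singleton] at this
    obtain ⟨a, rfl⟩ := this
    simp at hc'
  have hp : Prime g := (Ideal.span_singleton_prime hg0).1 hm.isPrime
  obtain ⟨c, hc, hc'⟩ := h g.natAbs (Int.prime_iff_natAbs_prime.1 hp)
  obtain ⟨a, rfl⟩ := Submodule.mem_span_singleton.1 (hle hc)
  exact hc' (Int.natAbs_dvd.2 (Dvd.intro_left a rfl))

end Groth.Agent.Lib.LabGraph.Circuits
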