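import Groth.Agent.Lib.LabGraph.Chain
import Groth.Agent.Lib.LabGraph.CauchyBinet
import Mathlib.LinearAlgebra.Matrix.NonsingularInverse
import Mathlib.LinearAlgebra.Matrix.ToLinearEquiv
import Mathlib.LinearAlgebra.FreeModule.Finite.CardQuotient
import Mathlib.Data.ZMod.QuotientGroup
import Mathlib.RingTheory.PrincipalIdealDomain
import Mathlib.Algebra.Field.ZMod

/-!
# Matrix tree theorem for a multigraph with multiplicities and the order of its component group
-/

set_option autoImplicit false

universe u

namespace Groth.Agent.Lib.LabGraph.MatrixTree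

open Finset Matrix

variable {V : Type u} [Fintype V] [DecidableEq V] (r : V)

/-- non-root vertices -/
abbrev NR : Type u := {v : V // v ≠ r}

section Incidence

variable {E : Type u} [Fintype E] [DecidableEq E] (ends : E → V × V) (K : Type*) [CommRing K]

/-- the incidence matrix -/
def inc : Matrix V E K := fun v e =>
  (if (ends e).2 = v then 1 else 0) - (if (ends e).1 = v then 1 else 0)

/-- the reduced incidence matrix -/
def rinc : Matrix (NR r) E K := fun v e => inc ends K v.1 e

lemma sum_inc (e : E) : ∑ v, inc ends K v e = 0 := by simp [inc, sum_sub_distrib]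

variable {r ends}

lemma rinc_single (e : E) :
    rinc r ends K *ᵥ Pi.single e 1 = (fun w : NR r => if (ends e).2 = w.1 then (1 : K) else 0) -
      (fun w : NR r => if (ends e).1 = w.1 then (1 : K) else 0) := by
  funext w
  rw [mulVec_single_one]
  rfl

variable (r) in
lemma surjective_of_connected (h : LabGraph.Connected ends) :
    Function.Surjective (fun x => rinc r ends K *ᵥ x) := by
  classical
  let M := LinearMap.range (rinc r ends K).mulVecLin
  let Q : V → Prop := fun v => (fun w : NR r => if v = w.1 then (1 : K) else 0) ∈ M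
  have hr : Q r := by
    have : (fun w : NR r => if r = w.1 then (1 : K) else 0) = 0 := funext fun w => if_neg w.2.symm
    change _ ∈ M
    rw [this]
    exact zero_mem _
  have hedge : ∀ e, Q (ends e).1 ↔ Q (ends e).2 := by
    intro e
    have hc := rinc_single (r := r) (ends := ends) K e
    have hmem : rinc r ends K *ᵥ Pi.single e 1 ∈ M := ⟨_, rfl⟩
    rw [hc] at hmem
    constructor
    · intro h1
      simpa using add_mem hmem h1
    · intro h2
      simpa using sub_mem h2 hmem
  have hall : ∀ v, Q v := by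
    intro v
    induction h.2 r v with
    | refl => exact hr
    | tail _ hbc ih =>
      obtain ⟨e, he | he⟩ := hbc
      · have := hedge e; rw [he] at this; exact this.mp ih
      · have := hedge e; rw [he] at this; exact this.mpr ih
  intro y
  have hy : y ∈ M := by
    rw [← univ_sum_single y]
    refine sum_mem fun v _ => ?_
    have : (Pi.single v (y v) : NR r → K) = y v • fun w : NR r => if v.1 = w.1 then (1 : K) else 0 := by
      funext w
      rw [Pi.single_apply, Pi.smul_apply, smul_eq_mul, mul_ite, mul_one, mul_zero]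
      exact if_congr (by rw [Subtype.ext_iff, eq_comm]) rfl rfl
    rw [this]
    exact M.smul_mem _ (hall v.1)
  exact hy

/-- parity of edge ends -/
lemma rinc_two_apply (C : Finset E) (v : NR r) :
    (rinc r ends (ZMod 2) *ᵥ fun e => if e ∈ C then 1 else 0) v =
      (LabGraph.endCount ends C v.1 : ZMod 2) := by
  simp only [mulVec, dotProduct, mul_ite, mul_one, mul_zero, sum_ite_mem, univ_inter,
    LabGraph.endCount, Nat.cast_sum, Nat.cast_add, Nat.cast_ite, Nat.cast_one, Nat.cast_zero]
  refine sum_congr rfl fun e _ => ?_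
  simp only [rinc, inc]
  rw [CharTwo.sub_eq_add, add_comm]

lemma sum_endCount (C : Finset E) : ∑ v, LabGraph.endCount ends C v = 2 * C.card := by
  simp only [LabGraph.endCount]
  rw [sum_comm]
  simp [sum_add_distrib, mul_comm 2]

variable (r) in
lemma forest_iff : DualGr.IsForest ends ↔
    Function.Injective fun x => rinc r ends (ZMod 2) *ᵥ x := by
  classical
  have key : ∀ C : Finset E, (rinc r ends (ZMod 2) *ᵥ fun e => if e ∈ C then 1 else 0) = 0 ↔
      ∀ v, Even (LabGraph.endCount ends C v) := by
    intro C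
    constructor
    · intro h v
      have hne : ∀ w : V, w ≠ r → Even (LabGraph.endCount ends C w) := fun w hw => by
        have := congrFun h ⟨w, hw⟩
        rwa [rinc_two_apply, Pi.zero_apply, ZMod.natCast_eq_zero_iff_even] at this
      by_cases hv : v = r
      · subst hv
        have hs : Even (∑ w, LabGraph.endCount ends C w) := by rw [sum_endCount]; exact even_two_mul _
        rw [← add_sum_erase univ _ (mem_univ v), Nat.even_add] at hs
        exact hs.mpr (even_sum _ fun w hw => hne w (ne_of_mem_erase hw))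
      · exact hne v hv
    · intro h
      funext v
      rw [rinc_two_apply, Pi.zero_apply, ZMod.natCast_eq_zero_iff_even]
      exact h v.1
  constructor
  · intro hf
    intro x x' hxx'
    by_contra hne
    have hz : rinc r ends (ZMod 2) *ᵥ (x - x') = 0 := by
      rw [mulVec_sub]; exact sub_eq_zero.mpr hxx'
    set C := univ.filter fun e => (x - x') e ≠ 0 with hC
    have hind : (fun e => if e ∈ C then (1 : ZMod 2) else 0) = x - x' := by
      funext e
      rw [hC]
      simp only [mem_filter, mem_univ, true_and]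
      split_ifs with h
      · revert h; generalize (x - x') e = a; revert a; decide
      · exact (not_not.mp h).symm
    have heven := (key C).mp (hind ▸ hz)
    have hCne : C.Nonempty := by
      obtain ⟨e, he⟩ := Function.ne_iff.mp (sub_ne_zero.mpr hne)
      exact ⟨e, mem_filter.mpr ⟨mem_univ _, he⟩⟩
    let P : ℕ → Prop := fun n => ∃ C' : Finset E, C'.card = n ∧ C'.Nonempty ∧
      ∀ v, Even (LabGraph.endCount ends C' v)
    have hP : ∃ n, P n := ⟨_, C, rfl, hCne, heven⟩
    obtain ⟨C', hcard, hne', heven'⟩ := Nat.find_spec hP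
    refine hf C' ⟨hne', heven', fun C'' hss hne'' => ?_⟩
    by_contra hall
    push Not at hall
    exact Nat.find_min hP (hcard ▸ card_lt_card hss) ⟨C'', rfl, hne'', hall⟩
  · intro hinj C hC
    have h := hinj (a₁ := fun e => if e ∈ C then 1 else 0) (a₂ := 0)
      (by simp only [(key C).mpr hC.2.1, mulVec_zero])
    obtain ⟨e, he⟩ := hC.1
    simpa [he] using congrFun h e

variable (r) in
lemma connected_of_det_ne_zero (σ : NR r ≃ E) (h : ((rinc r ends ℤ).submatrix id σ).det ≠ 0) :
    LabGraph.Connected ends := by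
  classical
  have symm : ∀ {v w : V}, Relation.ReflTransGen (LabGraph.Adj ends) v w →
      Relation.ReflTransGen (LabGraph.Adj ends) w v := by
    intro v w hvw
    induction hvw with
    | refl => exact Relation.ReflTransGen.refl
    | tail _ hbc ih =>
      exact Relation.ReflTransGen.head (let ⟨e, he⟩ := hbc; ⟨e, he.symm⟩) ih
  suffices key : ∀ v, Relation.ReflTransGen (LabGraph.Adj ends) v r from
    ⟨⟨r⟩, fun v w => (key v).trans (symm (key w))⟩
  intro v
  by_contra hv
  apply h
  let u : NR r → ℤ := fun w => if Relation.ReflTransGen (LabGraph.Adj ends) v w.1 then 1 else 0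
  refine exists_vecMul_eq_zero_iff.mp ⟨u, ?_, ?_⟩
  · intro hu
    have := congrFun hu ⟨v, fun hvr => hv (hvr ▸ Relation.ReflTransGen.refl)⟩
    simp [u, Relation.ReflTransGen.refl] at this
  · funext j
    let z : V → ℤ := fun w => if Relation.ReflTransGen (LabGraph.Adj ends) v w then 1 else 0
    have hz : ∀ e, z (ends e).1 = z (ends e).2 := fun e => by
      refine if_congr ⟨fun h => h.tail ⟨e, Or.inl rfl⟩, fun h => h.tail ⟨e, Or.inr rfl⟩⟩ rfl rfl
    have hsum : ∑ w : NR r, z w.1 * inc ends ℤ w.1 (σ j) = ∑ w, z w * inc ends ℤ w (σ j) := by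
      rw [← sum_subtype (univ.erase r) (fun w => by simp) fun w => z w * inc ends ℤ w (σ j)]
      refine sum_erase _ ?_
      simp [z, hv]
    change ∑ w : NR r, z w.1 * inc ends ℤ w.1 (σ j) = 0
    rw [hsum]
    simp only [inc, mul_sub, mul_ite, mul_one, mul_zero, sum_sub_distrib, sum_ite_eq, mem_univ,
      if_true, hz, sub_self]

variable (r) in
lemma det_sq (σ : NR r ≃ E) (hc : LabGraph.Connected ends) :
    ((rinc r ends ℤ).submatrix id σ).det * ((rinc r ends ℤ).submatrix id σ).det = 1 := by
  refine Int.isUnit_mul_self ((isUnit_iff_isUnit_det _).mp (mulVec_surjective_iff_isUnit.mp ?_))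
  intro y
  obtain ⟨x, hx⟩ := surjective_of_connected r ℤ hc y
  refine ⟨x ∘ σ, ?_⟩
  rw [← hx, submatrix_mulVec_equiv]
  simp [Function.comp_def]

lemma tree_card (h : DualGr.IsTree ends) : Fintype.card (NR r) = Fintype.card E := by
  have hs := Fintype.card_le_of_surjective _ (surjective_of_connected r (ZMod 2) h.1)
  have hi := Fintype.card_le_of_injective _ ((forest_iff r).mp h.2)
  rw [Fintype.card_fun, Fintype.card_fun, ZMod.card] at hs hi
  exact le_antisymm ((Nat.pow_le_pow_iff_right Nat.one_lt_two).mp hs)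
    ((Nat.pow_le_pow_iff_right Nat.one_lt_two).mp hi)

lemma tree_of_connected (σ : NR r ≃ E) (hc : LabGraph.Connected ends) : DualGr.IsTree ends := by
  refine ⟨hc, (forest_iff r).mpr ?_⟩
  have hs := surjective_of_connected r (ZMod 2) hc
  exact ((Fintype.bijective_iff_surjective_and_card _).mpr
    ⟨hs, by rw [Fintype.card_fun, Fintype.card_fun, Fintype.card_congr σ]⟩).1

end Incidence

section Main

variable {E : Type u} [Fintype E] [DecidableEq E] (ends : E → V × V) {β : V → ℤ}

/-- edge weights -/
def wt (β : V → ℤ) (e : E) : ℤ := β (ends e).1 * β (ends e).2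

/-- the weighted Laplacian -/
def lap (β : V → ℤ) : Matrix V V ℤ := inc ends ℤ * diagonal (wt ends β) * (inc ends ℤ)ᵀ

lemma lap_apply (β : V → ℤ) (v w : V) :
    lap ends β v w = ∑ e, inc ends ℤ v e * wt ends β e * inc ends ℤ w e := by
  rw [lap, Matrix.mul_apply]
  exact sum_congr rfl fun e _ => by rw [Matrix.mul_diagonal, transpose_apply]

lemma lap_eq (hβ : LabGraph.IsMultFn ends β) :
    lap ends β = -(diagonal β * LabGraph.mfMatrix ends β * diagonal β) := by
  have hoff : ∀ v w, v ≠ w → lap ends β v w = -(β v * LabGraph.mfMatrix ends β v w * β w) := by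
    intro v w hvw
    rw [lap_apply, Chain.mf_of_ne hvw, Chain.mult_eq hvw, mul_sum, sum_mul, ← sum_neg_distrib]
    refine sum_congr rfl fun e _ => ?_
    simp only [inc, wt]
    by_cases h1 : (ends e).1 = v <;> by_cases h2 : (ends e).2 = w <;>
      by_cases h3 : (ends e).1 = w <;> by_cases h4 : (ends e).2 = v <;>
      simp_all [mul_comm]
  funext v w
  rw [Matrix.neg_apply, Matrix.mul_diagonal, Matrix.diagonal_mul]
  rcases eq_or_ne v w with rfl | hvw
  · have h1 : ∑ w, lap ends β v w = 0 := by
      simp only [lap_apply]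
      rw [sum_comm]
      exact sum_eq_zero fun e _ => by rw [← mul_sum, sum_inc, mul_zero]
    have h2 : ∑ w, β v * LabGraph.mfMatrix ends β v w * β w = 0 := by
      simp only [mul_assoc]
      rw [← mul_sum, Chain.sum_mf_beta hβ, mul_zero]
    rw [← add_sum_erase univ _ (mem_univ v), sum_congr rfl fun w hw => hoff v w (ne_of_mem_erase hw).symm,
      sum_neg_distrib] at h1
    rw [← add_sum_erase univ _ (mem_univ v)] at h2
    linarith
  · exact hoff v w hvw

/-- reduced `α` -/
def rmat (β : V → ℤ) : Matrix (NR r) (NR r) ℤ :=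
  (LabGraph.mfMatrix ends β).submatrix Subtype.val Subtype.val

/-- reduced weighted Laplacian -/
def rlap (β : V → ℤ) : Matrix (NR r) (NR r) ℤ :=
  rinc r ends ℤ * (diagonal (wt ends β) * (rinc r ends ℤ)ᵀ)

lemma rlap_eq (hβ : LabGraph.IsMultFn ends β) :
    rlap r ends β = -(diagonal (fun v : NR r => β v.1) * rmat r ends β *
      diagonal (fun v : NR r => β v.1)) := by
  funext v w
  have h := congrFun (congrFun (lap_eq ends hβ) v.1) w.1
  rw [Matrix.neg_apply, Matrix.mul_diagonal, Matrix.diagonal_mul] at h ⊢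
  rw [rmat, submatrix_apply, ← h, lap_apply, rlap, ← Matrix.mul_assoc, Matrix.mul_apply]
  exact sum_congr rfl fun e _ => by rw [Matrix.mul_diagonal, transpose_apply]; rfl

lemma natAbs_det_rlap (hβ : LabGraph.IsMultFn ends β) :
    (rlap r ends β).det.natAbs =
      (rmat r ends β).det.natAbs * (∏ v : NR r, β v.1).natAbs ^ 2 := by
  rw [rlap_eq r ends hβ, det_neg, det_mul, det_mul, det_diagonal]
  simp only [Int.natAbs_mul, Int.natAbs_pow, Int.natAbs_neg, Int.natAbs_one, one_pow, one_mul]
  ring

lemma det_rlap_ne_zero (hβ : LabGraph.IsMultFn ends β) (hG : LabGraph.Connected ends) :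
    (rlap r ends β).det ≠ 0 := by
  intro h0
  obtain ⟨y, hy, hy0⟩ := exists_mulVec_eq_zero_iff.mpr h0
  apply hy
  have hq : ∑ e, wt ends β e * ((rinc r ends ℤ)ᵀ *ᵥ y) e * ((rinc r ends ℤ)ᵀ *ᵥ y) e = 0 := by
    have h := congrArg (fun x => y ⬝ᵥ x) hy0
    simp only [rlap, ← mulVec_mulVec, dotProduct_mulVec, dotProduct_zero] at h
    rw [← dotProduct_mulVec] at h
    rw [← h]
    unfold dotProduct
    refine sum_congr rfl fun e _ => ?_
    rw [vecMul_diagonal, mulVec_transpose]
    ring
  have hpos : ∀ e, 0 < wt ends β e := fun e => mul_pos (hβ _).1 (hβ _).1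
  have hz : ∀ e, ((rinc r ends ℤ)ᵀ *ᵥ y) e = 0 := by
    intro e
    have hnn : ∀ e ∈ (univ : Finset E),
        0 ≤ wt ends β e * ((rinc r ends ℤ)ᵀ *ᵥ y) e * ((rinc r ends ℤ)ᵀ *ᵥ y) e := fun e _ => by
      rw [mul_assoc]; exact mul_nonneg (hpos e).le (mul_self_nonneg _)
    have := (sum_eq_zero_iff_of_nonneg hnn).mp hq e (mem_univ e)
    rw [mul_assoc, mul_eq_zero, mul_self_eq_zero] at this
    exact this.resolve_left (hpos e).ne'
  let z : V → ℤ := fun v => if h : v = r then 0 else y ⟨v, h⟩
  have hedge : ∀ e, z (ends e).1 = z (ends e).2 := by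
    intro e
    have h := hz e
    simp only [mulVec, dotProduct, transpose_apply] at h
    have hs : ∑ w : NR r, rinc r ends ℤ w e * y w = ∑ v, inc ends ℤ v e * z v := by
      rw [← sum_erase (univ : Finset V) (a := r) (f := fun v => inc ends ℤ v e * z v) (by simp [z]),
        sum_subtype (univ.erase r) (p := fun v => v ≠ r) (fun v => by simp)]
      exact sum_congr rfl fun w _ => by simp [z, w.2, rinc]
    rw [hs] at h
    simp only [inc, sub_mul, ite_mul, one_mul, zero_mul, sum_sub_distrib, sum_ite_eq, mem_univ,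
      if_true] at h
    linarith
  funext w
  have hzero : ∀ v, z v = 0 := by
    intro v
    induction hG.2 r v with
    | refl => simp [z]
    | tail _ hbc ih =>
      obtain ⟨e, he | he⟩ := hbc
      · have := hedge e; rw [he] at this; exact this.symm.trans ih
      · have := hedge e; rw [he] at this; exact this.trans ih
  simpa [z, w.2] using hzero w.1

lemma det_rmat_ne_zero (hβ : LabGraph.IsMultFn ends β) (hG : LabGraph.Connected ends) :
    (rmat r ends β).det ≠ 0 := fun h => det_rlap_ne_zero r ends hβ hG (by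
  have := natAbs_det_rlap r ends hβ
  rw [h, Int.natAbs_zero, zero_mul] at this
  exact Int.natAbs_eq_zero.mp this)

open Classical in
lemma det_rlap (β : V → ℤ) : (rlap r ends β).det =
    ∑ T ∈ univ.powerset.filter (fun T : Finset E => LabGraph.IsSpanningTree ends T),
      ∏ e ∈ T, wt ends β e := by
  rw [rlap, CauchyBinet.det_mul, powerset_univ, sum_filter]
  refine sum_congr rfl fun S _ => ?_
  unfold CauchyBinet.minors
  split_ifs with h htree htree
  · set σ : NR r ≃ S := Fintype.equivOfCardEq h with hσ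
    have hA : (rinc r ends ℤ).submatrix id (fun i => (σ i : E)) =
        (rinc r (fun e : S => ends e.1) ℤ).submatrix id σ := rfl
    have hB : (diagonal (wt ends β) * (rinc r ends ℤ)ᵀ).submatrix (fun i => (σ i : E)) id =
        diagonal (fun i => wt ends β (σ i : E)) *
          ((rinc r (fun e : S => ends e.1) ℤ).submatrix id σ)ᵀ := by
      funext i j
      rw [submatrix_apply, Matrix.diagonal_mul, Matrix.diagonal_mul]
      rfl
    rw [hA, hB, det_mul, det_transpose, det_diagonal, mul_left_comm, det_sq r σ htree.1, mul_one,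
      Equiv.prod_comp σ (fun e : S => wt ends β e.1), prod_coe_sort S (wt ends β)]
  · set σ : NR r ≃ S := Fintype.equivOfCardEq h with hσ
    have h0 : ((rinc r (fun e : S => ends e.1) ℤ).submatrix id σ).det = 0 := by
      by_contra hne
      exact htree (tree_of_connected σ (connected_of_det_ne_zero r σ hne))
    have hA : (rinc r ends ℤ).submatrix id (fun i => (σ i : E)) =
        (rinc r (fun e : S => ends e.1) ℤ).submatrix id σ := rfl
    rw [hA, h0, zero_mul]
  · exact absurd (tree_card htree) h
  · rfl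

lemma exists_bezout (β : V → ℤ) : ∃ c : V → ℤ, ∑ v, c v * β v = univ.gcd β := by
  obtain ⟨d, hd⟩ := (IsPrincipalIdealRing.principal (Ideal.span (Set.range β))).principal
  have hdiv : d ∣ univ.gcd β := Finset.dvd_gcd fun v _ => by
    have : β v ∈ Ideal.span (Set.range β) := Ideal.subset_span ⟨v, rfl⟩
    rw [hd] at this
    exact Ideal.mem_span_singleton.mp this
  have hmem : univ.gcd β ∈ Ideal.span (Set.range β) := by
    rw [hd]; exact Ideal.mem_span_singleton.mpr hdiv
  obtain ⟨c, hc⟩ := Ideal.mem_span_range_iff_exists_fun.mp hmem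
  exact ⟨c, hc⟩

lemma index_ker_zmod {G : Type*} [AddCommGroup G] {q : ℕ} (ψ : G →+ ZMod q)
    (h : ∃ x, ψ x = 1) : ψ.ker.index = q := by
  obtain ⟨x, hx⟩ := h
  rw [AddSubgroup.index_ker, show ψ.range = ⊤ from ?_, AddSubgroup.card_top, Nat.card_zmod]
  refine eq_top_iff.mpr fun a _ => ?_
  obtain ⟨a, rfl⟩ := ZMod.intCast_surjective a
  exact ⟨a • x, by rw [map_zsmul, hx, zsmul_one]⟩

theorem card_compGrp (hβ : LabGraph.IsMultFn ends β) (hG : LabGraph.Connected ends) :
    ∃ (q : ℕ), 0 < q ∧ β r = q * univ.gcd β ∧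
      (rmat r ends β).det.natAbs = q * q * Nat.card (LabGraph.CompGrp ends β) := by
  classical
  set m := univ.gcd β with hm
  have hdvd : ∀ v, m ∣ β v := fun v => gcd_dvd (mem_univ v)
  have hm0 : m ≠ 0 := fun h => (hβ r).1.ne' (by
    have := hdvd r; rw [h] at this; exact zero_dvd_iff.mp this)
  have hmpos : 0 < m := lt_of_le_of_ne
    (Int.nonneg_of_normalize_eq_self Finset.normalize_gcd) hm0.symm
  let b : V → ℤ := fun v => β v / m
  have hb : ∀ v, β v = b v * m := fun v => (Int.ediv_mul_cancel (hdvd v)).symm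
  have hbpos : 0 < b r := by
    have := (hβ r).1
    rw [hb r] at this
    exact pos_of_mul_pos_left this hmpos.le
  obtain ⟨q, hq⟩ := Int.eq_ofNat_of_zero_le hbpos.le
  refine ⟨q, by rw [hq] at hbpos; exact_mod_cast hbpos, by rw [hb r, hq], ?_⟩
  obtain ⟨c, hc⟩ := exists_bezout β
  have hc1 : ∑ v, c v * b v = 1 := by
    refine mul_right_cancel₀ hm0 ?_
    rw [sum_mul, one_mul]
    refine (sum_congr rfl fun v _ => ?_).trans hc
    rw [mul_assoc, ← hb]
  let π : (V → ℤ) →+ (NR r → ℤ) :=
    { toFun := fun x v => x v.1, map_zero' := rfl, map_add' := fun _ _ => rfl }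
  let A : (V → ℤ) →+ (NR r → ℤ) :=
    π.comp (LabGraph.mfMatrix ends β).mulVecLin.toAddMonoidHom
  let Λ : AddSubgroup (NR r → ℤ) := (rmat r ends β).mulVecLin.toAddMonoidHom.range
  let I : AddSubgroup (NR r → ℤ) := A.range
  let ψ : (NR r → ℤ) →+ ZMod q :=
    { toFun := fun y => ((∑ v : NR r, y v * b v.1 : ℤ) : ZMod q)
      map_zero' := by simp
      map_add' := fun y y' => by simp [add_mul, sum_add_distrib] }
  let ev : LinearMap.ker (LabGraph.betaHom β) →+ (NR r → ℤ) :=
    π.comp (LinearMap.ker (LabGraph.betaHom β)).subtype.toAddMonoidHom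
  have hbr : ((b r : ℤ) : ZMod q) = 0 := by rw [hq, Int.cast_natCast, ZMod.natCast_self]
  have hsplit : ∀ x : V → ℤ, ∑ v, x v * b v = x r * b r + ∑ v : NR r, x v.1 * b v.1 := by
    intro x
    rw [← add_sum_erase univ _ (mem_univ r),
      sum_subtype (univ.erase r) (p := fun v => v ≠ r) (fun v => by simp)]
  have hext : ∀ (y : NR r → ℤ) (a : ℤ), ∃ x : V → ℤ, x r = a ∧ π x = y := fun y a =>
    ⟨fun v => if h : v = r then a else y ⟨v, h⟩, dif_pos rfl, funext fun w => dif_neg w.2⟩
  have hψ : ∃ y, ψ y = 1 := by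
    refine ⟨π c, ?_⟩
    have h := congrArg (fun z : ℤ => (z : ZMod q)) ((hsplit c).symm.trans hc1)
    simp only [Int.cast_add, Int.cast_mul, hbr, mul_zero, zero_add, Int.cast_one] at h
    exact h
  have hker : ψ.ker = ev.range := by
    ext y
    constructor
    · intro hy
      change ((∑ v : NR r, y v * b v.1 : ℤ) : ZMod q) = 0 at hy
      obtain ⟨a, ha⟩ := (ZMod.intCast_zmod_eq_zero_iff_dvd _ q).mp hy
      obtain ⟨x, hxr, hxy⟩ := hext y (-a)
      refine ⟨⟨x, ?_⟩, hxy⟩
      have : ∑ v, x v * b v = 0 := by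
        rw [hsplit, hxr, hq]
        have : ∑ v : NR r, x v.1 * b v.1 = ∑ v : NR r, y v * b v.1 := by rw [← hxy]; rfl
        rw [this, ha]; ring
      rw [LinearMap.mem_ker, Chain.betaHom_apply]
      simp only [hb, ← mul_assoc]
      rw [← sum_mul, this, zero_mul]
    · rintro ⟨x, rfl⟩
      change ((∑ v : NR r, x.1 v.1 * b v.1 : ℤ) : ZMod q) = 0
      have h : ∑ v, x.1 v * β v = 0 := by rw [← Chain.betaHom_apply]; exact x.2
      simp only [hb, ← mul_assoc] at h
      rw [← sum_mul, mul_eq_zero] at h
      have h' := congrArg (fun z : ℤ => (z : ZMod q)) ((hsplit x.1).symm.trans (h.resolve_right hm0))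
      simpa only [Int.cast_add, Int.cast_mul, hbr, mul_zero, zero_add, Int.cast_zero] using h'
  have hIK : I ≤ ψ.ker := by
    rw [hker]
    rintro _ ⟨x, rfl⟩
    exact ⟨⟨_, LinearMap.mem_ker.mpr (Chain.betaHom_mulVec hβ x)⟩, rfl⟩
  -- the component group
  have hΦ : I.relIndex ψ.ker = Nat.card (LabGraph.CompGrp ends β) := by
    rw [hker, ← AddSubgroup.index_comap]
    have : I.comap ev = ((LinearMap.range (Matrix.mulVecLin (LabGraph.mfMatrix ends β))).comap
        (LinearMap.ker (LabGraph.betaHom β)).subtype).toAddSubgroup := by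
      ext x
      constructor
      · rintro ⟨z, hz⟩
        refine ⟨z, ?_⟩
        have h0 : LabGraph.betaHom β (LabGraph.mfMatrix ends β *ᵥ z - x.1) = 0 := by
          rw [map_sub, Chain.betaHom_mulVec hβ, x.2, sub_zero]
        have hoff : ∀ v, v ≠ r → (LabGraph.mfMatrix ends β *ᵥ z - x.1) v = 0 := fun v hv =>
          sub_eq_zero.mpr (congrFun hz ⟨v, hv⟩)
        rw [Chain.betaHom_apply, sum_eq_single r (fun v _ hv => by rw [hoff v hv, zero_mul])
          (by simp), mul_eq_zero] at h0
        funext v
        by_cases hv : v = r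
        · subst hv; exact sub_eq_zero.mp (h0.resolve_right (hβ v).1.ne')
        · exact sub_eq_zero.mp (hoff v hv)
      · rintro ⟨z, hz⟩
        exact ⟨z, congrArg π hz⟩
    rw [this]
    rfl
  -- the kernel of `α`
  have hΛmem : ∀ (y : NR r → ℤ) (x : V → ℤ), x r = 0 → π x = y →
      rmat r ends β *ᵥ y = π (LabGraph.mfMatrix ends β *ᵥ x) := by
    rintro y x hxr rfl
    funext v
    change ∑ w : NR r, LabGraph.mfMatrix ends β v.1 w.1 * x w.1 = ∑ w, LabGraph.mfMatrix ends β v.1 w * x w
    rw [← sum_subtype (univ.erase r) (p := fun v => v ≠ r) (fun v => by simp)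
      fun w => LabGraph.mfMatrix ends β v.1 w * x w]
    exact sum_erase _ (by rw [hxr, mul_zero])
  have hdet := det_rmat_ne_zero r ends hβ hG
  have hinj : Function.Injective (rmat r ends β).mulVecLin := by
    rw [injective_iff_map_eq_zero]
    intro y hy
    by_contra hne
    exact hdet (exists_mulVec_eq_zero_iff.mp ⟨y, hne, hy⟩)
  have hkerA : ∀ z : V → ℤ, A z = 0 → (q : ℤ) ∣ z r := by
    intro z hz
    have hA0 : ∀ v, z v * β r = z r * β v := by
      let w : V → ℤ := fun v => z v * β r - z r * β v
      have hwr : w r = 0 := by simp [w]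
      have hw : π w = 0 := by
        apply hinj
        rw [map_zero, mulVecLin_apply, hΛmem _ w hwr rfl]
        have : w = β r • z - z r • β := by funext v; simp [w, mul_comm]
        rw [this, mulVec_sub, mulVec_smul, mulVec_smul, Chain.mulVec_beta hβ, smul_zero, sub_zero,
          map_zsmul]
        change β r • A z = 0
        rw [hz, smul_zero]
      intro v
      by_cases hv : v = r
      · rw [hv]
      · exact sub_eq_zero.mp (congrFun hw ⟨v, hv⟩)
    refine ⟨∑ v, c v * z v, ?_⟩
    have h : ∀ v, z v * b r = z r * b v := fun v => mul_right_cancel₀ hm0 (by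
      rw [mul_assoc, mul_assoc, ← hb, ← hb]; exact hA0 v)
    calc z r = z r * ∑ v, c v * b v := by rw [hc1, mul_one]
      _ = ∑ v, c v * (z r * b v) := by rw [mul_sum]; exact sum_congr rfl fun v _ => by ring
      _ = ∑ v, c v * (z v * b r) := by simp only [h]
      _ = (q : ℤ) * ∑ v, c v * z v := by
        rw [mul_sum]; exact sum_congr rfl fun v _ => by rw [hq]; ring
  let ρ : (V → ℤ) →+ ZMod q :=
    { toFun := fun x => ((x r : ℤ) : ZMod q), map_zero' := by simp, map_add' := fun x y => by simp }
  have hcomap : Λ.comap A = ρ.ker := by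
    ext x
    constructor
    · rintro ⟨y, hy⟩
      obtain ⟨x', hx'r, hx'⟩ := hext y 0
      have h : A (x - x') = 0 := by
        rw [map_sub, sub_eq_zero, ← hy]
        exact hΛmem y x' hx'r hx'
      have := hkerA _ h
      rw [Pi.sub_apply, hx'r, sub_zero] at this
      exact (ZMod.intCast_zmod_eq_zero_iff_dvd _ q).mpr this
    · intro hx
      obtain ⟨a, ha⟩ := (ZMod.intCast_zmod_eq_zero_iff_dvd _ q).mp hx
      let x' : V → ℤ := fun v => x v - a * b v
      have hx'r : x' r = 0 := by simp [x', hq, ha, mul_comm]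
      refine ⟨π x', (hΛmem _ x' hx'r rfl).trans ?_⟩
      change A x' = A x
      have hb0 : LabGraph.mfMatrix ends β *ᵥ b = 0 := by
        funext v
        have h := Chain.sum_mf_beta hβ v
        simp only [hb, ← mul_assoc] at h
        rw [← sum_mul, mul_eq_zero] at h
        exact h.resolve_right hm0
      have : x' = x - a • b := by funext v; simp [x']
      rw [this, map_sub, map_zsmul, show A b = 0 from congrArg π hb0, smul_zero, sub_zero]
  have hΛI : Λ.relIndex I = q := by
    rw [← AddSubgroup.index_comap, hcomap]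
    exact index_ker_zmod ρ ⟨Pi.single r 1, by simp [ρ]⟩
  have hle : Λ ≤ I := by
    rintro _ ⟨y, rfl⟩
    obtain ⟨x, hxr, hx⟩ := hext y 0
    exact ⟨x, (hΛmem y x hxr hx).symm⟩
  have hΛindex : Λ.index = (rmat r ends β).det.natAbs := by
    let bb := (Pi.basisFun ℤ (NR r)).map (LinearEquiv.ofInjective _ hinj)
    have h := Submodule.natAbs_det_basis_change (Pi.basisFun ℤ (NR r))
      (LinearMap.range (rmat r ends β).mulVecLin) bb
    have e : (Pi.basisFun ℤ (NR r)).det (Subtype.val ∘ bb) = (rmat r ends β).det := by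
      rw [Module.Basis.det_apply]
      congr 1
      funext i j
      simp [Module.Basis.toMatrix_apply, bb]
    rw [e] at h
    exact h.symm
  rw [← hΛindex, ← AddSubgroup.relIndex_mul_index hle, hΛI, ← AddSubgroup.relIndex_mul_index hIK,
    hΦ, index_ker_zmod ψ hψ]
  ring

lemma prod_wt (β : V → ℤ) (T : Finset E) :
    ∏ e ∈ T, wt ends β e = ∏ v, β v ^ LabGraph.endCount ends T v := by
  simp only [LabGraph.endCount, ← prod_pow_eq_pow_sum]
  rw [prod_comm]
  refine prod_congr rfl fun e _ => ?_
  simp only [pow_add, prod_mul_distrib, pow_ite, pow_one, pow_zero, prod_ite_eq, mem_univ, if_true]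
  rfl

lemma endCount_eq_nbr {T : Finset E} (hT : LabGraph.IsSpanningTree ends T) (v : V) :
    LabGraph.endCount ends T v = LabGraph.nbrCount ends T v := by
  classical
  have hinj := (forest_iff v).mp hT.2
  have hcol : ∀ e : T, rinc v (fun e : T => ends e.1) (ZMod 2) *ᵥ Pi.single e 1 =
      (fun w : NR v => if (ends e.1).2 = w.1 then (1 : ZMod 2) else 0) +
        (fun w : NR v => if (ends e.1).1 = w.1 then (1 : ZMod 2) else 0) := fun e => by
    rw [rinc_single]; funext w; exact CharTwo.sub_eq_add _ _
  have hloop : ∀ e ∈ T, (ends e).1 ≠ (ends e).2 := by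
    intro e he heq
    have h := hinj (a₁ := Pi.single ⟨e, he⟩ 1) (a₂ := 0) (by
      simp only [hcol, mulVec_zero, heq]
      funext w
      exact CharTwo.add_self_eq_zero _)
    simpa using congrFun h ⟨e, he⟩
  have hpar : ∀ e ∈ T, ∀ e' ∈ T, (ends e = ends e' ∨ ends e = (ends e').swap) → e = e' := by
    intro e he e' he' h
    have := hinj (a₁ := Pi.single ⟨e, he⟩ 1) (a₂ := Pi.single ⟨e', he'⟩ 1) (by
      simp only [hcol]
      rcases h with h | h <;> rw [h]
      simp only [Prod.fst_swap, Prod.snd_swap]
      exact add_comm _ _)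
    by_contra hne
    simpa [Pi.single_apply, hne] using congrFun this ⟨e, he⟩
  have h1 : LabGraph.endCount ends T v =
      (T.filter fun e => (ends e).1 = v ∨ (ends e).2 = v).card := by
    rw [card_filter]
    refine sum_congr rfl fun e he => ?_
    have := hloop e he
    by_cases h1 : (ends e).1 = v <;> by_cases h2 : (ends e).2 = v <;> simp_all
  rw [h1, LabGraph.nbrCount]
  refine card_bij (fun e _ => if (ends e).1 = v then (ends e).2 else (ends e).1) ?_ ?_ ?_
  · intro e he
    rw [mem_filter] at he
    refine mem_filter.mpr ⟨mem_univ _, ?_, e, he.1, ?_⟩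
    · split_ifs with h
      · exact fun h' => hloop e he.1 (h.trans h'.symm)
      · exact h
    · split_ifs with h
      · exact Or.inl (Prod.ext h rfl)
      · exact Or.inr (Prod.ext rfl (he.2.resolve_left h))
  · intro e he e' he' h
    rw [mem_filter] at he he'
    apply hpar e he.1 e' he'.1
    split_ifs at h with h1 h2 h2
    · exact Or.inl (Prod.ext (h1.trans h2.symm) h)
    · exact Or.inr (Prod.ext (h1.trans (he'.2.resolve_left h2).symm) h)
    · exact Or.inr (Prod.ext h ((he.2.resolve_left h1).trans h2.symm))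
    · exact Or.inl (Prod.ext h ((he.2.resolve_left h1).trans (he'.2.resolve_left h2).symm))
  · intro w hw
    obtain ⟨hne, e, he, he' | he'⟩ := (mem_filter.mp hw).2
    · exact ⟨e, mem_filter.mpr ⟨he, Or.inl (by rw [he'])⟩, by simp [he']⟩
    · exact ⟨e, mem_filter.mpr ⟨he, Or.inr (by rw [he'])⟩, by simp [he', hne]⟩

open Classical in
theorem card_formula (hβ : LabGraph.IsMultFn ends β) (hG : LabGraph.Connected ends) :
    (Nat.card (LabGraph.CompGrp ends β) : ℤ) * (∏ v, β v) ^ 2 =
      univ.gcd β ^ 2 * ∑ T ∈ univ.powerset.filter (fun T : Finset E => LabGraph.IsSpanningTree ends T),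
        ∏ v, β v ^ LabGraph.nbrCount ends T v := by
  obtain ⟨r⟩ := hG.1
  obtain ⟨q, hq0, hqr, hcard⟩ := card_compGrp r ends hβ hG
  have hsum : ∑ T ∈ univ.powerset.filter (fun T : Finset E => LabGraph.IsSpanningTree ends T),
      ∏ v, β v ^ LabGraph.nbrCount ends T v = (rlap r ends β).det := by
    rw [det_rlap]
    refine sum_congr rfl fun T hT => ?_
    rw [prod_wt]
    exact prod_congr rfl fun v _ => by rw [endCount_eq_nbr ends (mem_filter.mp hT).2]
  have hnn : 0 ≤ (rlap r ends β).det := by
    rw [← hsum]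
    exact sum_nonneg fun T _ => prod_nonneg fun v _ => pow_nonneg (hβ v).1.le _
  have hP : 0 ≤ ∏ v : NR r, β v.1 := prod_nonneg fun v _ => (hβ v.1).1.le
  have hd : (rlap r ends β).det =
      (q : ℤ) * q * (Nat.card (LabGraph.CompGrp ends β) : ℤ) * (∏ v : NR r, β v.1) ^ 2 := by
    conv_lhs => rw [← Int.natAbs_of_nonneg hnn, natAbs_det_rlap r ends hβ, hcard]
    push_cast
    rw [abs_of_nonneg hP]
  rw [hsum, hd, ← mul_prod_erase univ β (mem_univ r),
    prod_subtype (univ.erase r) (p := fun v => v ≠ r) (fun v => by simp), hqr]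
  ring

end Main

end Groth.Agent.Lib.LabGraph.MatrixTree
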