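import Groth.Agent.Lib.LabGraph.Circuits
import Groth.Agent.Lib.LabGraph.MatrixTree
import Groth.Prelude.Def_W4c5modbuncurvesppStab
import Mathlib.LinearAlgebra.FiniteDimensional.Lemmas
import Mathlib.Data.Real.Basic
import Mathlib.Algebra.BigOperators.Pi

/-!
# Side sums on a tree and stability of sheaf data on a multigraph
-/

set_option autoImplicit false

universe u w

namespace Groth.Agent.Lib.LabGraph.TreeSides

open _root_.LabGraph Groth.Agent.Lib.LabGraph.Circuits

variable {V E : Type u} [Fintype V] [Fintype E] [DecidableEq V] [DecidableEq E] (ends : E → V × V)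

theorem side_iff (e : E) (v : V) :
    v ∈ PhiStab.side ends e ↔ Relation.ReflTransGen (AdjIn ends (Finset.univ.erase e)) (ends e).1 v := by
  classical
  have h : LabGraph.Adj (PhiStab.spanEnds ends (Finset.univ.erase e)) = AdjIn ends (Finset.univ.erase e) := by
    funext a b
    refine propext ⟨fun ⟨x, hx⟩ => ⟨x.1, x.2, hx⟩, fun ⟨x, hx, hx'⟩ => ⟨⟨x, hx⟩, hx'⟩⟩
  simp only [PhiStab.side, Finset.mem_filter, Finset.mem_univ, true_and, h]

theorem fst_mem_side (e : E) : (ends e).1 ∈ PhiStab.side ends e :=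
  (side_iff ends e _).mpr Relation.ReflTransGen.refl

theorem snd_notMem_side (hT : DualGr.IsTree ends) (e : E) : (ends e).2 ∉ PhiStab.side ends e := fun h => by
  obtain ⟨C, hC, -, -⟩ := exists_circuit ends (Finset.notMem_erase e Finset.univ) ((side_iff ends e _).mp h)
  exact hT.2 C hC

theorem mem_side_iff {e e' : E} (h : e' ≠ e) :
    (ends e').1 ∈ PhiStab.side ends e ↔ (ends e').2 ∈ PhiStab.side ends e := by
  have hadj := adjIn_edge ends (Finset.mem_erase.mpr ⟨h, Finset.mem_univ e'⟩)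
  simp only [side_iff]
  exact ⟨fun h => h.trans hadj, fun h => h.trans (adjIn_symm ends hadj)⟩

variable {M : Type w} [AddCommGroup M]

/-- The vertex function of a flow. -/
def flow (y : E → M) : V → M := ∑ e, (Pi.single (ends e).1 (y e) - Pi.single (ends e).2 (y e))

theorem sum_flow (y : E → M) (S : Finset V) :
    ∑ v ∈ S, flow ends y v =
      ∑ e, ((if (ends e).1 ∈ S then y e else 0) - (if (ends e).2 ∈ S then y e else 0)) := by
  simp only [flow, Finset.sum_apply, Pi.sub_apply]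
  rw [Finset.sum_comm]
  exact Finset.sum_congr rfl fun e _ => by rw [Finset.sum_sub_distrib, Finset.sum_pi_single', Finset.sum_pi_single']

theorem sum_flow_side (hT : DualGr.IsTree ends) (y : E → M) (e : E) :
    ∑ v ∈ PhiStab.side ends e, flow ends y v = y e := by
  rw [sum_flow, Finset.sum_eq_single e]
  · rw [if_pos (fst_mem_side ends e), if_neg (snd_notMem_side ends hT e), sub_zero]
  · intro e' _ h
    simp only [mem_side_iff ends h, sub_self]
  · exact fun h => absurd (Finset.mem_univ e) h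

theorem sum_flow_univ (y : E → M) : ∑ v, flow ends y v = 0 := by
  rw [sum_flow]; simp

theorem exists_sides (hT : DualGr.IsTree ends) (c : E → M) (c₀ : M) :
    ∃ φ : V → M, (∀ e, ∑ v ∈ PhiStab.side ends e, φ v = c e) ∧ ∑ v, φ v = c₀ := by
  classical
  obtain ⟨r⟩ := hT.1.1
  refine ⟨Pi.single r c₀ + flow ends (fun e => c e - if r ∈ PhiStab.side ends e then c₀ else 0), fun e => ?_, ?_⟩
  · simp only [Pi.add_apply, Finset.sum_add_distrib, Finset.sum_pi_single', sum_flow_side ends hT]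
    abel
  · simp only [Pi.add_apply, Finset.sum_add_distrib, Finset.sum_pi_single', Finset.mem_univ, if_true,
      sum_flow_univ ends, add_zero]

theorem sides_unique (hT : DualGr.IsTree ends) (φ ψ : V → ℝ)
    (h : ∀ e, ∑ v ∈ PhiStab.side ends e, φ v = ∑ v ∈ PhiStab.side ends e, ψ v) (h0 : ∑ v, φ v = ∑ v, ψ v) :
    φ = ψ := by
  classical
  let L : (V → ℝ) →ₗ[ℝ] (E → ℝ) × ℝ :=
    { toFun := fun f => (fun e => ∑ v ∈ PhiStab.side ends e, f v, ∑ v, f v)
      map_add' := fun f g => by simp only [Pi.add_apply, Finset.sum_add_distrib]; rfl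
      map_smul' := fun a f => by
        simp only [Pi.smul_apply, ← Finset.smul_sum]; rfl }
  obtain ⟨r⟩ := hT.1.1
  have hsurj : Function.Surjective L := fun c => by
    obtain ⟨f, h1, h2⟩ := exists_sides ends hT c.1 c.2
    exact ⟨f, Prod.ext (funext h1) h2⟩
  have hcard := MatrixTree.tree_card (r := r) (ends := ends) hT
  rw [Fintype.card_subtype_compl, Fintype.card_subtype_eq] at hcard
  have hV : 0 < Fintype.card V := Fintype.card_pos_iff.mpr ⟨r⟩
  have hrk : Module.finrank ℝ (V → ℝ) = Module.finrank ℝ ((E → ℝ) × ℝ) := by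
    rw [Module.finrank_prod, Module.finrank_fintype_fun_eq_card, Module.finrank_fintype_fun_eq_card,
      Module.finrank_self]
    omega
  exact (LinearMap.injective_iff_surjective_of_finrank_eq_finrank hrk).mpr hsurj (Prod.ext (funext h) h0)

/-- A balanced vertex function is the flow of its side sums. -/
theorem eq_flow (hT : DualGr.IsTree ends) (ψ : V → ℝ) (h0 : ∑ v, ψ v = 0) :
    ψ = flow ends (fun e => ∑ v ∈ PhiStab.side ends e, ψ v) :=
  sides_unique ends hT _ _ (fun e => (sum_flow_side ends hT (fun e => ∑ v ∈ PhiStab.side ends e, ψ v) e).symm)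
    (by rw [h0, sum_flow_univ])

/-- In a connected graph a proper set has a crossing edge. -/
theorem exists_crossing (hc : Connected ends) {S : Finset V} (hne : S.Nonempty) (hu : S ≠ Finset.univ) :
    ∃ e, ((ends e).1 ∈ S ∧ (ends e).2 ∉ S) ∨ ((ends e).1 ∉ S ∧ (ends e).2 ∈ S) := by
  by_contra hno
  push Not at hno
  obtain ⟨a, ha⟩ := hne
  refine hu (Finset.eq_univ_of_forall fun b => ?_)
  induction hc.2 a b with
  | refl => exact ha
  | @tail x y _ hxy ih =>
    obtain ⟨e, he | he⟩ := hxy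
    · have := (hno e).1; rw [he] at this; exact this ih
    · have := (hno e).2; rw [he] at this; by_contra hy; exact this hy ih

/-! ## Stability margins -/

/-- The margin of the stability inequality. -/
noncomputable def marg (φ : V → ℝ) (m : V → ℤ) (N : Finset E) (S : Finset V) : ℝ :=
  (PhiStab.degOn ends m N S : ℝ) - ((∑ v ∈ S, φ v) - (cut ends S : ℝ) / 2)

/-- The per-edge contribution. -/
noncomputable def edgeTerm (N : Finset E) (S : Finset V) (e : E) : ℝ :=
  (if e ∈ N ∧ (ends e).1 ∈ S ∧ (ends e).2 ∈ S then 1 else 0) +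
    (if ((ends e).1 ∈ S ∧ (ends e).2 ∉ S) ∨ ((ends e).1 ∉ S ∧ (ends e).2 ∈ S) then 1 / 2 else 0)

theorem marg_eq (φ : V → ℝ) (m : V → ℤ) (N : Finset E) (S : Finset V) :
    marg ends φ m N S = ∑ v ∈ S, ((m v : ℝ) - φ v) + ∑ e, edgeTerm ends N S e := by
  simp only [marg, edgeTerm, PhiStab.degOn, PhiStab.inner, cut, Finset.sum_add_distrib, Finset.sum_sub_distrib,
    Int.cast_add, Int.cast_sum, Int.cast_natCast, Finset.sum_boole]
  rw [← Finset.sum_filter, Finset.sum_const, nsmul_eq_mul]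
  have h1 : N ∩ Finset.univ.filter (fun e : E => (ends e).1 ∈ S ∧ (ends e).2 ∈ S) =
      Finset.univ.filter (fun e : E => e ∈ N ∧ (ends e).1 ∈ S ∧ (ends e).2 ∈ S) := by ext; simp
  rw [h1]
  ring

/-- Two vertex sets with no edge between them. -/
def Apart (A B : Finset V) : Prop :=
  Disjoint A B ∧ ∀ e, ¬ ((ends e).1 ∈ A ∧ (ends e).2 ∈ B) ∧ ¬ ((ends e).1 ∈ B ∧ (ends e).2 ∈ A)

theorem marg_union {φ : V → ℝ} {m : V → ℤ} {N : Finset E} {A B : Finset V} (h : Apart ends A B) :
    marg ends φ m N (A ∪ B) = marg ends φ m N A + marg ends φ m N B := by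
  simp only [marg_eq, Finset.sum_union h.1]
  have : ∀ e, edgeTerm ends N (A ∪ B) e = edgeTerm ends N A e + edgeTerm ends N B e := fun e => by
    obtain ⟨he1, he2⟩ := h.2 e
    have d1 : ¬ ((ends e).1 ∈ A ∧ (ends e).1 ∈ B) := fun hh => Finset.disjoint_left.mp h.1 hh.1 hh.2
    have d2 : ¬ ((ends e).2 ∈ A ∧ (ends e).2 ∈ B) := fun hh => Finset.disjoint_left.mp h.1 hh.1 hh.2
    simp only [edgeTerm, Finset.mem_union]
    by_cases a1 : (ends e).1 ∈ A <;> by_cases a2 : (ends e).2 ∈ A <;> by_cases b1 : (ends e).1 ∈ B <;>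
      by_cases b2 : (ends e).2 ∈ B <;> simp_all
  rw [Finset.sum_congr rfl fun e _ => this e, Finset.sum_add_distrib]
  ring

/-- The crossing edges not in `N`. -/
def crossFree (N : Finset E) (S : Finset V) : ℝ :=
  ∑ e, if e ∉ N ∧ (((ends e).1 ∈ S ∧ (ends e).2 ∉ S) ∨ ((ends e).1 ∉ S ∧ (ends e).2 ∈ S)) then 1 else 0

theorem marg_compl {φ : V → ℝ} {m : V → ℤ} {N : Finset E} (hdeg : (∑ v : V, φ v) = (PhiStab.totDeg m N : ℝ))
    (S : Finset V) : marg ends φ m N S + marg ends φ m N Sᶜ = crossFree ends N S := by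
  simp only [marg_eq, crossFree]
  have h0 : ∑ v ∈ S, ((m v : ℝ) - φ v) + ∑ v ∈ Sᶜ, ((m v : ℝ) - φ v) = -(N.card : ℝ) := by
    rw [Finset.sum_add_sum_compl, Finset.sum_sub_distrib, hdeg, PhiStab.totDeg]
    push_cast
    ring
  have h1 : ∀ e, edgeTerm ends N S e + edgeTerm ends N Sᶜ e =
      (if e ∈ N then (1 : ℝ) else 0) +
      if e ∉ N ∧ (((ends e).1 ∈ S ∧ (ends e).2 ∉ S) ∨ ((ends e).1 ∉ S ∧ (ends e).2 ∈ S)) then 1 else 0 := fun e => by
    simp only [edgeTerm, Finset.mem_compl, not_not]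
    by_cases a1 : (ends e).1 ∈ S <;> by_cases a2 : (ends e).2 ∈ S <;> by_cases hN : e ∈ N <;>
      simp [a1, a2, hN] <;> norm_num
  calc _ = (∑ v ∈ S, ((m v : ℝ) - φ v) + ∑ v ∈ Sᶜ, ((m v : ℝ) - φ v)) + ∑ e, (edgeTerm ends N S e + edgeTerm ends N Sᶜ e) := by
        rw [Finset.sum_add_distrib]; ring
    _ = _ := by
        rw [h0, Finset.sum_congr rfl fun e _ => h1 e, Finset.sum_add_distrib, Finset.sum_boole,
          Finset.filter_mem_eq_inter, Finset.univ_inter]
        ring

theorem crossFree_union {N : Finset E} {A B : Finset V} (h : Apart ends A B) :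
    crossFree ends N (A ∪ B) = crossFree ends N A + crossFree ends N B := by
  simp only [crossFree, ← Finset.sum_add_distrib]
  refine Finset.sum_congr rfl fun e _ => ?_
  obtain ⟨he1, he2⟩ := h.2 e
  have d1 : ¬ ((ends e).1 ∈ A ∧ (ends e).1 ∈ B) := fun hh => Finset.disjoint_left.mp h.1 hh.1 hh.2
  have d2 : ¬ ((ends e).2 ∈ A ∧ (ends e).2 ∈ B) := fun hh => Finset.disjoint_left.mp h.1 hh.1 hh.2
  simp only [Finset.mem_union]
  by_cases a1 : (ends e).1 ∈ A <;> by_cases a2 : (ends e).2 ∈ A <;> by_cases b1 : (ends e).1 ∈ B <;>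
    by_cases b2 : (ends e).2 ∈ B <;> simp_all

/-- A set inducing a disconnected subgraph splits. -/
theorem exists_split {S : Finset V} (hne : S.Nonempty) (h : ¬ Connected (PhiStab.indEnds ends S)) :
    ∃ A B : Finset V, A.Nonempty ∧ B.Nonempty ∧ A ∪ B = S ∧ Apart ends A B := by
  classical
  simp only [Connected, not_and, not_forall] at h
  obtain ⟨a, b, hab⟩ := h ⟨⟨hne.choose, hne.choose_spec⟩⟩
  let R := LabGraph.Adj (PhiStab.indEnds ends S)
  let A := S.filter fun v => ∃ hv : v ∈ S, Relation.ReflTransGen R a ⟨v, hv⟩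
  have hmem : ∀ v, v ∈ A ↔ ∃ hv : v ∈ S, Relation.ReflTransGen R a ⟨v, hv⟩ := fun v =>
    ⟨fun h => (Finset.mem_filter.mp h).2, fun h => Finset.mem_filter.mpr ⟨h.1, h⟩⟩
  refine ⟨A, S \ A, ⟨a.1, (hmem _).mpr ⟨a.2, Relation.ReflTransGen.refl⟩⟩,
    ⟨b.1, Finset.mem_sdiff.mpr ⟨b.2, fun hb => hab ((hmem _).mp hb).2⟩⟩,
    Finset.union_sdiff_of_subset (Finset.filter_subset _ _), Finset.disjoint_sdiff, fun e => ⟨?_, ?_⟩⟩
  · rintro ⟨h1, h2⟩
    obtain ⟨h1S, h1R⟩ := (hmem _).mp h1
    obtain ⟨h2S, h2A⟩ := Finset.mem_sdiff.mp h2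
    exact h2A ((hmem _).mpr ⟨h2S, h1R.tail
      ⟨⟨e, Finset.mem_filter.mpr ⟨Finset.mem_univ e, h1S, h2S⟩⟩, Or.inl rfl⟩⟩)
  · rintro ⟨h1, h2⟩
    obtain ⟨h2S, h2R⟩ := (hmem _).mp h2
    obtain ⟨h1S, h1A⟩ := Finset.mem_sdiff.mp h1
    exact h1A ((hmem _).mpr ⟨h1S, h2R.tail
      ⟨⟨e, Finset.mem_filter.mpr ⟨Finset.mem_univ e, h1S, h2S⟩⟩, Or.inr rfl⟩⟩)

/-- If `Sᶜ = A ⊔ B` and `S` is connected then so is `S ∪ B`. -/
theorem connected_union (hc : Connected ends) {S A B : Finset V} (hne : S.Nonempty)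
    (hS : Connected (PhiStab.indEnds ends S)) (hAB : A ∪ B = Sᶜ) (hap : Apart ends A B) :
    Connected (PhiStab.indEnds ends (S ∪ B)) := by
  classical
  obtain ⟨s, hs⟩ := hne
  let R := LabGraph.Adj (PhiStab.indEnds ends (S ∪ B))
  let T := (S ∪ B).filter fun v => ∃ hv : v ∈ S ∪ B, Relation.ReflTransGen R ⟨s, Finset.mem_union_left _ hs⟩ ⟨v, hv⟩
  have hmem : ∀ v, v ∈ T ↔ ∃ hv : v ∈ S ∪ B, Relation.ReflTransGen R ⟨s, Finset.mem_union_left _ hs⟩ ⟨v, hv⟩ := fun v =>
    ⟨fun h => (Finset.mem_filter.mp h).2, fun h => Finset.mem_filter.mpr ⟨h.1, h⟩⟩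
  have hclosed : ∀ e, (ends e).1 ∈ S ∪ B → (ends e).2 ∈ S ∪ B → ((ends e).1 ∈ T ↔ (ends e).2 ∈ T) := by
    intro e h1 h2
    simp only [hmem]
    exact ⟨fun ⟨_, h⟩ => ⟨h2, h.tail ⟨⟨e, Finset.mem_filter.mpr ⟨Finset.mem_univ e, h1, h2⟩⟩, Or.inl rfl⟩⟩,
      fun ⟨_, h⟩ => ⟨h1, h.tail ⟨⟨e, Finset.mem_filter.mpr ⟨Finset.mem_univ e, h1, h2⟩⟩, Or.inr rfl⟩⟩⟩
  have hST : S ⊆ T := fun v hv => by
    refine (hmem v).mpr ⟨Finset.mem_union_left _ hv, ?_⟩
    suffices ∀ w : {w // w ∈ S}, Relation.ReflTransGen (LabGraph.Adj (PhiStab.indEnds ends S)) ⟨s, hs⟩ w →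
        Relation.ReflTransGen R ⟨s, Finset.mem_union_left _ hs⟩ ⟨w.1, Finset.mem_union_left _ w.2⟩ from
      this ⟨v, hv⟩ (hS.2 _ _)
    intro w hw
    induction hw with
    | refl => exact Relation.ReflTransGen.refl
    | tail _ hxy ih =>
      obtain ⟨⟨e, he⟩, hxy⟩ := hxy
      obtain ⟨-, he1, he2⟩ := Finset.mem_filter.mp he
      refine ih.tail ⟨⟨e, Finset.mem_filter.mpr ⟨Finset.mem_univ e, Finset.mem_union_left _ he1, Finset.mem_union_left _ he2⟩⟩, ?_⟩
      simp only [PhiStab.indEnds, Prod.ext_iff, Subtype.ext_iff] at hxy ⊢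
      exact hxy
  have hBT : ∀ v ∈ B, v ∈ T := by
    by_contra hno
    push Not at hno
    obtain ⟨v, hvB, hvT⟩ := hno
    let W := B \ T
    have hW : W ≠ Finset.univ := fun h => by
      have := h ▸ Finset.mem_univ s
      exact (Finset.mem_sdiff.mp this).2 (hST hs)
    obtain ⟨e, he⟩ := exists_crossing ends hc ⟨v, Finset.mem_sdiff.mpr ⟨hvB, hvT⟩⟩ hW
    have hother : ∀ x, x ∉ A → x ∈ S ∪ B := fun x hx => by
      rw [Finset.mem_union]
      by_cases hxS : x ∈ S
      · exact Or.inl hxS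
      · exact Or.inr ((Finset.mem_union.mp (hAB ▸ Finset.mem_compl.mpr hxS)).resolve_left hx)
    rcases he with ⟨h1, h2⟩ | ⟨h1, h2⟩
    · obtain ⟨h1B, h1T⟩ := Finset.mem_sdiff.mp h1
      have hy := hother _ fun hA => (hap.2 e).2 ⟨h1B, hA⟩
      have hiff := hclosed e (Finset.mem_union_right _ h1B) hy
      by_cases h2B : (ends e).2 ∈ B
      · exact h1T (hiff.mpr (by_contra fun h => h2 (Finset.mem_sdiff.mpr ⟨h2B, h⟩)))
      · exact h1T (hiff.mpr (hST ((Finset.mem_union.mp hy).resolve_right h2B)))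
    · obtain ⟨h2B, h2T⟩ := Finset.mem_sdiff.mp h2
      have hy := hother _ fun hA => (hap.2 e).1 ⟨hA, h2B⟩
      have hiff := hclosed e hy (Finset.mem_union_right _ h2B)
      by_cases h1B : (ends e).1 ∈ B
      · exact h2T (hiff.mp (by_contra fun h => h1 (Finset.mem_sdiff.mpr ⟨h1B, h⟩)))
      · exact h2T (hiff.mp (hST ((Finset.mem_union.mp hy).resolve_right h1B)))
  have hall : ∀ v : {v // v ∈ S ∪ B}, Relation.ReflTransGen R ⟨s, Finset.mem_union_left _ hs⟩ v := fun v =>
    ((hmem v.1).mp ((Finset.mem_union.mp v.2).elim (fun h => hST h) (hBT v.1))).2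
  refine ⟨⟨⟨s, Finset.mem_union_left _ hs⟩⟩, fun x y => ?_⟩
  have hback : ∀ v, Relation.ReflTransGen R ⟨s, Finset.mem_union_left _ hs⟩ v →
      Relation.ReflTransGen R v ⟨s, Finset.mem_union_left _ hs⟩ := fun v hv => by
    induction hv with
    | refl => exact Relation.ReflTransGen.refl
    | tail _ hab ih => exact ih.head (hab.imp fun e he => he.symm)
  exact (hback x (hall x)).trans (hall y)

/-- Testing elementary sets suffices. -/
theorem elementary_suffices (hc : Connected ends) (φ : V → ℝ) (m : V → ℤ) (N : Finset E)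
    (hdeg : (∑ v : V, φ v) = (PhiStab.totDeg m N : ℝ)) (P : ℝ → Prop) (hadd : ∀ x y, P x → P y → P (x + y))
    (h : ∀ S, PhiStab.IsElementary ends S → P (marg ends φ m N S))
    (S : Finset V) (hne : S.Nonempty) (hu : S ≠ Finset.univ) : P (marg ends φ m N S) := by
  have stage1 : ∀ (n : ℕ) (S : Finset V), Sᶜ.card = n → S.Nonempty → S ≠ Finset.univ →
      Connected (PhiStab.indEnds ends S) → P (marg ends φ m N S) := by
    intro n
    induction n using Nat.strong_induction_on with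
    | _ n ih =>
      intro S hn hne hu hS
      by_cases hSc : Connected (PhiStab.indEnds ends Sᶜ)
      · exact h S ⟨hS, hSc⟩
      have hcne : Sᶜ.Nonempty := Finset.nonempty_iff_ne_empty.mpr fun he => hu (by rw [← compl_compl S, he, Finset.compl_empty])
      obtain ⟨A, B, hA, hB, hAB, hap⟩ := exists_split ends hcne hSc
      have hap' : Apart ends B A := ⟨hap.1.symm, fun e => ⟨(hap.2 e).2, (hap.2 e).1⟩⟩
      have key : ∀ A B : Finset V, A.Nonempty → B.Nonempty → A ∪ B = Sᶜ → Apart ends A B →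
          P (marg ends φ m N Aᶜ) := by
        intro A B hA hB hAB hap
        have hAc : Aᶜ = S ∪ B := by
          ext v
          have h1 : v ∈ A ∨ v ∈ B ↔ v ∉ S := by rw [← Finset.mem_union, hAB, Finset.mem_compl]
          have h2 : ¬ (v ∈ A ∧ v ∈ B) := fun hh => Finset.disjoint_left.mp hap.1 hh.1 hh.2
          simp only [Finset.mem_compl, Finset.mem_union]; tauto
        refine ih A.card ?_ Aᶜ (by rw [compl_compl]) ?_ ?_ (hAc ▸ connected_union ends hc hne hS hAB hap)
        · rw [← hn, ← hAB, Finset.card_union_of_disjoint hap.1]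
          have := hB.card_pos
          omega
        · rw [hAc]; exact hne.mono Finset.subset_union_left
        · intro he
          rw [Finset.compl_eq_univ_iff] at he
          exact hA.ne_empty he
      have hsum := hadd _ _ (key A B hA hB hAB hap) (key B A hB hA (by rw [Finset.union_comm, hAB]) hap')
      convert hsum using 1
      have e0 := marg_compl ends hdeg S
      rw [← hAB, marg_union ends hap] at e0
      have e1 := marg_compl ends hdeg A
      have e2 := marg_compl ends hdeg B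
      have e3 := crossFree_union ends (N := N) hap
      have e4 : crossFree ends N Sᶜ = crossFree ends N S := by
        refine Finset.sum_congr rfl fun e _ => if_congr ?_ rfl rfl
        simp only [Finset.mem_compl]; tauto
      rw [← hAB] at e4
      linarith
  induction hcard : S.card using Nat.strong_induction_on generalizing S with
  | _ n ih =>
    by_cases hS : Connected (PhiStab.indEnds ends S)
    · exact stage1 _ S rfl hne hu hS
    obtain ⟨A, B, hA, hB, hAB, hap⟩ := exists_split ends hne hS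
    have hc' := Finset.card_union_of_disjoint hap.1
    rw [hAB, hcard] at hc'
    have hA' := hA.card_pos
    have hB' := hB.card_pos
    have hle : n ≤ Fintype.card V := hcard ▸ Finset.card_le_univ S
    rw [← hAB, marg_union ends hap]
    refine hadd _ _ (ih A.card (by omega) A hA ?_ rfl) (ih B.card (by omega) B hB ?_ rfl)
    · intro he; rw [he, Finset.card_univ] at hc'; omega
    · intro he; rw [he, Finset.card_univ] at hc'; omega

end Groth.Agent.Lib.LabGraph.TreeSides
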